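import Cfsg.Agent.Lib.Cuspidal.Mu

/-!
# The constant terms of the cuspidal function vanish

The sum of the cuspidal class function over all operators with prescribed diagonal blocks is zero.
Consequently the function vanishes at operators whose characteristic polynomial has two coprime
factors.
-/

set_option autoImplicit false
set_option linter.style.haveILetI false
set_option linter.unusedSectionVars false

namespace CfsgLib.Cuspidal

open Cfsg CfsgLib.BrauerChar CfsgLib.CharsMore.St.Mobius Module Polynomial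
open CfsgLib.CharsMore.St.GLValue (alt sum_alt)

universe v w

/-- Averages along surjective homomorphisms. -/
theorem avg_comp {G H : Type*} [AddGroup G] [AddGroup H] [Fintype G] [Fintype H] (f : G →+ H)
    (hf : Function.Surjective f) (g : H → ℂ) :
    (Fintype.card H : ℂ) * ∑ x, g (f x) = (Fintype.card G : ℂ) * ∑ y, g y := by
  classical
  have hfib : ∀ y : H, ((Finset.univ.filter fun x => f x = y).card : ℂ) =
      (Finset.univ.filter fun x => f x = 0).card := fun y => by
    obtain ⟨x₀, rfl⟩ := hf y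
    congr 1
    refine Finset.card_equiv (Equiv.addLeft (-x₀)) fun x => ?_
    simp only [Finset.mem_filter, Finset.mem_univ, true_and, Equiv.coe_addLeft, map_add, map_neg,
      neg_add_eq_zero]
    exact eq_comm
  have h1 : ∑ x, g (f x) = (Finset.univ.filter fun x => f x = 0).card * ∑ y, g y := by
    rw [← Finset.sum_fiberwise Finset.univ f, Finset.mul_sum]
    refine Finset.sum_congr rfl fun y _ => ?_
    rw [Finset.sum_congr rfl (g := fun _ => g y) fun x hx => by rw [(Finset.mem_filter.1 hx).2],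
      Finset.sum_const, nsmul_eq_mul, hfib]
  have h2 : (Fintype.card G : ℂ) = (Finset.univ.filter fun x => f x = 0).card * (Fintype.card H : ℂ) := by
    rw [← Finset.card_univ, Finset.card_eq_sum_card_fiberwise (t := Finset.univ) (f := f)
      fun x _ => Finset.mem_univ _, Nat.cast_sum, Finset.sum_congr rfl fun y _ => hfib y,
      Finset.sum_const, nsmul_eq_mul, Finset.card_univ, mul_comm]
  rw [h1, h2]
  ring

variable {K : Type v} [Field K]
variable {A B : Type w} [AddCommGroup A] [Module K A] [AddCommGroup B] [Module K B]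

section blk

variable (α : Module.End K A) (β : Module.End K B)

/-- A block triangular operator. -/
def blk (c : B →ₗ[K] A) : Module.End K (A × B) :=
  (α ∘ₗ LinearMap.fst K A B + c ∘ₗ LinearMap.snd K A B).prod (β ∘ₗ LinearMap.snd K A B)

@[simp] theorem blk_apply (c : B →ₗ[K] A) (x : A × B) :
    blk α β c x = (α x.1 + c x.2, β x.2) := rfl

theorem charpoly_blk [FiniteDimensional K A] [FiniteDimensional K B] (c : B →ₗ[K] A) :
    (blk α β c).charpoly = α.charpoly * β.charpoly := by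
  classical
  let bA := Module.Free.chooseBasis K A
  let bB := Module.Free.chooseBasis K B
  have h : LinearMap.toMatrix (bA.prod bB) (bA.prod bB) (blk α β c) =
      Matrix.fromBlocks (LinearMap.toMatrix bA bA α) (LinearMap.toMatrix bB bA c) 0
        (LinearMap.toMatrix bB bB β) := by
    ext i j
    rcases i with i | i <;> rcases j with j | j <;> simp [LinearMap.toMatrix_apply]
  rw [← LinearMap.charpoly_toMatrix (blk α β c) (bA.prod bB), h, Matrix.charpoly_fromBlocks_zero₂₁,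
    LinearMap.charpoly_toMatrix, LinearMap.charpoly_toMatrix]

/-- A shear. -/
def shear (ψ : B →ₗ[K] A) : (A × B) ≃ₗ[K] A × B where
  toFun x := (x.1 + ψ x.2, x.2)
  map_add' x y := by
    refine Prod.ext ?_ rfl
    show (x.1 + y.1) + ψ (x.2 + y.2) = (x.1 + ψ x.2) + (y.1 + ψ y.2)
    rw [map_add]; abel
  map_smul' r x := by
    refine Prod.ext ?_ rfl
    show r • x.1 + ψ (r • x.2) = r • (x.1 + ψ x.2)
    rw [map_smul, smul_add]
  invFun x := (x.1 - ψ x.2, x.2)
  left_inv x := by simp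
  right_inv x := by simp

@[simp] theorem shear_apply (ψ : B →ₗ[K] A) (x : A × B) : shear ψ x = (x.1 + ψ x.2, x.2) := rfl

/-- The change of the off-diagonal block under a shear. -/
def twist : (B →ₗ[K] A) →ₗ[K] (B →ₗ[K] A) where
  toFun ψ := ψ ∘ₗ β - α ∘ₗ ψ
  map_add' x y := by simp only [LinearMap.add_comp, LinearMap.comp_add]; abel
  map_smul' r x := by simp only [LinearMap.smul_comp, LinearMap.comp_smul, smul_sub, RingHom.id_apply]

theorem twist_apply (ψ : B →ₗ[K] A) (b : B) : twist α β ψ b = ψ (β b) - α (ψ b) := rfl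

theorem shear_intertwine (c ψ : B →ₗ[K] A) (x : A × B) :
    shear ψ (blk α β c x) = blk α β (c + twist α β ψ) (shear ψ x) := by
  simp only [shear_apply, blk_apply, LinearMap.add_apply, twist_apply, map_add]
  refine Prod.ext ?_ rfl
  dsimp only
  abel

end blk

/-- Maps sending one subspace into another. -/
def mapsInto (X : Submodule K A) (Y : Submodule K B) : Submodule K (B →ₗ[K] A) where
  carrier := {c | ∀ y ∈ Y, c y ∈ X}
  add_mem' h1 h2 y hy := X.add_mem (h1 y hy) (h2 y hy)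
  zero_mem' y _ := X.zero_mem
  smul_mem' r c hc y hy := X.smul_mem r (hc y hy)

theorem mem_mapsInto {X : Submodule K A} {Y : Submodule K B} {c : B →ₗ[K] A} :
    c ∈ mapsInto X Y ↔ ∀ y ∈ Y, c y ∈ X := Iff.rfl

/-- Extension of a map between subspaces. -/
theorem exists_extend_into {X X₀ : Submodule K A} {Y : Submodule K B} (Y₀ : Submodule K B)
    (hX : X ≤ X₀) (d : Y →ₗ[K] X) :
    ∃ c ∈ mapsInto X Y ⊓ mapsInto X₀ Y₀, ∀ y : Y, c (y : B) = (d y : A) := by
  obtain ⟨g, hg⟩ := LinearMap.exists_extend d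
  have hgy : ∀ y : Y, g (y : B) = d y := fun y => LinearMap.congr_fun hg y
  exact ⟨X.subtype ∘ₗ g, ⟨fun y _ => (g y).2, fun y _ => hX (g y).2⟩,
    fun y => congrArg Subtype.val (hgy y)⟩

section decomp

variable (X : Submodule K A) (Y : Submodule K B)

theorem comap_inl_shear (ψ : B →ₗ[K] A) :
    ((X.prod Y).map (shear ψ : (A × B) →ₗ[K] A × B)).comap (LinearMap.inl K A B) = X := by
  ext a
  constructor
  · rintro ⟨⟨x, y⟩, ⟨hx, -⟩, h⟩
    obtain ⟨h1, h2⟩ := Prod.ext_iff.1 h
    have hy : y = 0 := h2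
    have ha : x + ψ y = a := h1
    rw [hy, map_zero, add_zero] at ha
    exact ha ▸ hx
  · intro ha
    exact ⟨(a, 0), ⟨ha, Y.zero_mem⟩, by simp⟩

theorem map_snd_shear (ψ : B →ₗ[K] A) :
    ((X.prod Y).map (shear ψ : (A × B) →ₗ[K] A × B)).map (LinearMap.snd K A B) = Y := by
  ext b
  constructor
  · rintro ⟨_, ⟨⟨x, y⟩, ⟨-, hy⟩, rfl⟩, rfl⟩
    exact hy
  · intro hb
    exact ⟨_, ⟨(0, b), ⟨X.zero_mem, hb⟩, rfl⟩, rfl⟩

theorem shear_eq_iff (ψ ψ' : B →ₗ[K] A) :
    (X.prod Y).map (shear ψ : (A × B) →ₗ[K] A × B) = (X.prod Y).map (shear ψ' : (A × B) →ₗ[K] A × B) ↔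
      ψ - ψ' ∈ mapsInto X Y := by
  have key : ∀ φ φ' : B →ₗ[K] A, φ - φ' ∈ mapsInto X Y →
      (X.prod Y).map (shear φ : (A × B) →ₗ[K] A × B) ≤ (X.prod Y).map (shear φ' : (A × B) →ₗ[K] A × B) := by
    rintro φ φ' h _ ⟨⟨x, y⟩, ⟨hx, hy⟩, rfl⟩
    refine ⟨(x + (φ - φ') y, y), ⟨X.add_mem hx (h y hy), hy⟩, Prod.ext ?_ rfl⟩
    show x + (φ y - φ' y) + φ' y = x + φ y
    abel
  refine ⟨fun h y hy => ?_, fun h => le_antisymm (key _ _ h) (key _ _ ?_)⟩
  · have h1 : shear ψ (0, y) ∈ (X.prod Y).map (shear ψ' : (A × B) →ₗ[K] A × B) :=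
      h ▸ ⟨(0, y), ⟨X.zero_mem, hy⟩, rfl⟩
    obtain ⟨⟨x, y'⟩, ⟨hx, -⟩, h2⟩ := h1
    obtain ⟨h3, h4⟩ := Prod.ext_iff.1 h2
    have h5 : y' = y := h4
    have h6 : x + ψ' y' = 0 + ψ y := h3
    rw [h5, zero_add] at h6
    rw [LinearMap.sub_apply, ← h6, add_sub_cancel_right]
    exact hx
  · rw [← neg_sub]; exact (mapsInto X Y).neg_mem h

end decomp

theorem exists_shear {X₀ : Submodule K A} {Y₀ : Submodule K B} {W : Submodule K (A × B)}
    (hW : W ≤ X₀.prod Y₀) :
    ∃ ψ ∈ mapsInto X₀ Y₀, ((W.comap (LinearMap.inl K A B)).prod (W.map (LinearMap.snd K A B))).map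
      (shear ψ : (A × B) →ₗ[K] A × B) = W := by
  set Y := W.map (LinearMap.snd K A B)
  let π : W →ₗ[K] Y := (LinearMap.snd K A B).submoduleMap W
  obtain ⟨s, hs⟩ := π.exists_rightInverse_of_surjective
    (LinearMap.range_eq_top.2 ((LinearMap.snd K A B).submoduleMap_surjective W))
  have hsnd : ∀ y : Y, ((s y : A × B)).2 = (y : B) := fun y =>
    congrArg Subtype.val (LinearMap.congr_fun hs y)
  let d : Y →ₗ[K] X₀ := (LinearMap.fst K A B ∘ₗ W.subtype ∘ₗ s).codRestrict X₀ fun y => (hW (s y).2).1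
  obtain ⟨ψ, ⟨-, hψ0⟩, hψ⟩ := exists_extend_into Y₀ (le_refl X₀) d
  refine ⟨ψ, hψ0, le_antisymm ?_ fun z hz => ?_⟩
  · rintro _ ⟨⟨x, y⟩, ⟨hx, hy⟩, rfl⟩
    have h1 : ((x, 0) : A × B) + (s ⟨y, hy⟩ : A × B) ∈ W := W.add_mem hx (s ⟨y, hy⟩).2
    have e : ((x, 0) : A × B) + (s ⟨y, hy⟩ : A × B) = shear ψ (x, y) := by
      refine Prod.ext ?_ ?_
      · show x + ((s ⟨y, hy⟩ : A × B)).1 = x + ψ y
        rw [hψ ⟨y, hy⟩]; rfl
      · show (0 : B) + ((s ⟨y, hy⟩ : A × B)).2 = y
        rw [hsnd, zero_add]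
    rw [e] at h1
    exact h1
  · have hy : z.2 ∈ Y := ⟨z, hz, rfl⟩
    refine ⟨(z.1 - ψ z.2, z.2), ⟨?_, hy⟩, by simp⟩
    show ((z.1 - ψ z.2, 0) : A × B) ∈ W
    have h1 := W.sub_mem hz (s ⟨z.2, hy⟩).2
    have e : z - (s ⟨z.2, hy⟩ : A × B) = (z.1 - ψ z.2, 0) := by
      refine Prod.ext ?_ ?_
      · show z.1 - ((s ⟨z.2, hy⟩ : A × B)).1 = z.1 - ψ z.2
        rw [hψ ⟨z.2, hy⟩]; rfl
      · show z.2 - ((s ⟨z.2, hy⟩ : A × B)).2 = 0
        rw [hsnd, sub_self]
    rwa [e] at h1

variable [Finite K] [FiniteDimensional K A] [FiniteDimensional K B] [Finite A] [Finite B]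
variable (α : Module.End K A) (β : Module.End K B)

/-- The average of the Möbius function over the extensions of two invariant subspaces. -/
noncomputable def avgAlt {X : Submodule K A} {Y : Submodule K B} (hX : Inv α X) (hY : Inv β Y) : ℂ :=
  haveI : Finite (Y →ₗ[K] X) := Module.finite_of_finite K
  letI := Fintype.ofFinite (Y →ₗ[K] X)
  (Fintype.card (Y →ₗ[K] X) : ℂ)⁻¹ *
    ∑ d : Y →ₗ[K] X, alt (blk (α.restrict hX) (β.restrict hY) d) ⊤

variable {α β}

theorem inv_prod_iff {X : Submodule K A} {Y : Submodule K B} (hX : Inv α X) (hY : Inv β Y)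
    (c : B →ₗ[K] A) : Inv (blk α β c) (X.prod Y) ↔ c ∈ mapsInto X Y := by
  constructor
  · intro h y hy
    have := (h (0, y) ⟨X.zero_mem, hy⟩).1
    simpa using this
  · rintro h ⟨x, y⟩ ⟨hx, hy⟩
    exact ⟨X.add_mem (hX x hx) (h y hy), hY y hy⟩

/-- The restriction to a product of invariant subspaces. -/
theorem alt_chp_prod {X : Submodule K A} {Y : Submodule K B} (hX : Inv α X) (hY : Inv β Y)
    (c : B →ₗ[K] A) (hc : c ∈ mapsInto X Y) :
    alt (blk α β c) (X.prod Y) = alt (blk (α.restrict hX) (β.restrict hY) (c.restrict hc)) ⊤ ∧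
      chp (blk α β c) (X.prod Y) = chp α X * chp β Y := by
  have hW := (inv_prod_iff hX hY c).2 hc
  let e : (X × Y) ≃ₗ[K] X.prod Y :=
    { toFun := fun x => ⟨(x.1.1, x.2.1), x.1.2, x.2.2⟩
      map_add' := fun x y => rfl
      map_smul' := fun r x => rfl
      invFun := fun x => (⟨x.1.1, x.2.1⟩, ⟨x.1.2, x.2.2⟩)
      left_inv := fun x => rfl
      right_inv := fun x => rfl }
  have he : ∀ x, e (blk (α.restrict hX) (β.restrict hY) (c.restrict hc) x) =
      (blk α β c).restrict hW (e x) := fun x => Subtype.ext rfl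
  constructor
  · rw [← alt_restrict_top hW, ← alt_map_equiv e he (U := ⊤) fun v _ => Submodule.mem_top,
      Submodule.map_top, LinearEquiv.range]
  · rw [chp_eq hW, chp_eq hX, chp_eq hY, ← charpoly_blk (α.restrict hX) (β.restrict hY) (c.restrict hc),
      ← e.charpoly_conj (blk (α.restrict hX) (β.restrict hY) (c.restrict hc))]
    congr 1

variable (α β) in
open scoped Classical in
/-- **Averaging a weighted Möbius sum over the off-diagonal block.** -/
theorem sum_blocks (Gw : K[X] → ℂ) {X₀ : Submodule K A} {Y₀ : Submodule K B} (hX₀ : Inv α X₀)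
    (hY₀ : Inv β Y₀) [Fintype (mapsInto X₀ Y₀)] :
    ∑ c : mapsInto X₀ Y₀, ∑ W ∈ below (blk α β c) (X₀.prod Y₀),
        alt (blk α β c) W * Gw (chp (blk α β c) W) =
      (Fintype.card (mapsInto X₀ Y₀) : ℂ) * ∑ X ∈ below α X₀, ∑ Y ∈ below β Y₀,
        if h : Inv α X ∧ Inv β Y then avgAlt α β h.1 h.2 * Gw (chp α X * chp β Y) else 0 := by
  haveI : Fintype (Submodule K (A × B)) := Fintype.ofFinite _
  let F : (B →ₗ[K] A) → Submodule K (A × B) → ℂ := fun c W =>
    if Inv (blk α β c) W then alt (blk α β c) W * Gw (chp (blk α β c) W) else 0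
  let pr : Submodule K (A × B) → Submodule K A × Submodule K B := fun W =>
    (W.comap (LinearMap.inl K A B), W.map (LinearMap.snd K A B))
  let L : Submodule K A × Submodule K B → Finset (Submodule K (A × B)) := fun P =>
    Finset.univ.filter fun W => W ≤ X₀.prod Y₀ ∧ pr W = P
  have hsplit : ∀ c : (mapsInto X₀ Y₀), ∑ W ∈ below (blk α β c) (X₀.prod Y₀),
      alt (blk α β c) W * Gw (chp (blk α β c) W) =
      ∑ X ∈ below α X₀, ∑ Y ∈ below β Y₀, ∑ W ∈ L (X, Y), F c W := fun c => by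
    rw [← Finset.sum_product' (f := fun X Y => ∑ W ∈ L (X, Y), F c W),
      ← Finset.sum_fiberwise_of_maps_to (t := below α X₀ ×ˢ below β Y₀) (g := pr) fun W hW => by
        obtain ⟨hi, hle⟩ := mem_below.1 hW
        refine Finset.mem_product.2 ⟨mem_below.2 ⟨fun a ha => ?_, fun a ha => (hle ha).1⟩,
          mem_below.2 ⟨?_, ?_⟩⟩
        · have := hi (a, 0) ha
          show (α a, (0 : B)) ∈ W
          simpa [blk_apply] using this
        · rintro _ ⟨z, hz, rfl⟩; exact ⟨_, hi z hz, rfl⟩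
        · rintro _ ⟨z, hz, rfl⟩; exact (hle hz).2]
    refine Finset.sum_congr rfl fun P _ => ?_
    simp only [F, L, Finset.sum_ite, Finset.sum_const_zero, add_zero, Finset.filter_filter]
    refine Finset.sum_congr ?_ fun _ _ => rfl
    ext W
    simp [mem_below]
    tauto
  rw [Finset.sum_congr rfl fun c _ => hsplit c, Finset.sum_comm, Finset.mul_sum]
  refine Finset.sum_congr rfl fun X hX => ?_
  rw [Finset.sum_comm, Finset.mul_sum]
  refine Finset.sum_congr rfl fun Y hY => ?_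
  obtain ⟨hXi, hXle⟩ := mem_below.1 hX
  obtain ⟨hYi, hYle⟩ := mem_below.1 hY
  rw [dif_pos ⟨hXi, hYi⟩]
  -- the lifts are the shears of the product
  let C1 := (mapsInto X₀ Y₀) ⊓ mapsInto X Y
  haveI : Finite (B →ₗ[K] A) := Module.finite_of_finite K
  haveI : Fintype C1 := Fintype.ofFinite _
  haveI : Fintype (Y →ₗ[K] X) := @Fintype.ofFinite _ (Module.finite_of_finite K)
  let sh : (mapsInto X₀ Y₀) → Submodule K (A × B) := fun ψ =>
    (X.prod Y).map (shear (ψ : B →ₗ[K] A) : (A × B) →ₗ[K] A × B)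
  have hshL : ∀ ψ : (mapsInto X₀ Y₀), sh ψ ∈ L (X, Y) := fun ψ => by
    refine Finset.mem_filter.2 ⟨Finset.mem_univ _, ?_,
      Prod.ext (comap_inl_shear X Y _) (map_snd_shear X Y _)⟩
    rintro _ ⟨⟨x, y⟩, ⟨hx, hy⟩, rfl⟩
    exact ⟨X₀.add_mem (hXle hx) (ψ.2 y (hYle hy)), hYle hy⟩
  have hfib : ∀ W ∈ L (X, Y), (Finset.univ.filter fun ψ : (mapsInto X₀ Y₀) => sh ψ = W).card = Fintype.card C1 := by
    intro W hW
    obtain ⟨-, hle, hpr⟩ := Finset.mem_filter.1 hW
    obtain ⟨hp1, hp2⟩ := Prod.ext_iff.1 hpr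
    obtain ⟨ψ₀, hψ₀, hψW⟩ := exists_shear hle
    rw [show W.comap (LinearMap.inl K A B) = X from hp1,
      show W.map (LinearMap.snd K A B) = Y from hp2] at hψW
    rw [← Fintype.card_subtype]
    refine Fintype.card_congr
      { toFun := fun ψ => ⟨(ψ.1 : B →ₗ[K] A) - ψ₀, (mapsInto X₀ Y₀).sub_mem ψ.1.2 hψ₀,
          (shear_eq_iff X Y _ _).1 (ψ.2.trans hψW.symm)⟩
        invFun := fun δ => ⟨⟨(δ : B →ₗ[K] A) + ψ₀, (mapsInto X₀ Y₀).add_mem δ.2.1 hψ₀⟩, ?_⟩
        left_inv := fun ψ => Subtype.ext (Subtype.ext (sub_add_cancel _ _))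
        right_inv := fun δ => Subtype.ext (add_sub_cancel_right _ _) }
    refine Eq.trans ((shear_eq_iff X Y _ _).2 ?_) hψW
    rw [add_sub_cancel_right]
    exact δ.2.2
  have htw : ∀ ψ : (mapsInto X₀ Y₀), twist α β (ψ : B →ₗ[K] A) ∈ (mapsInto X₀ Y₀) := fun ψ y hy => by
    rw [twist_apply]
    exact X₀.sub_mem (ψ.2 _ (hY₀ y hy)) (hX₀ _ (ψ.2 y hy))
  have hψ : ∀ (ψ c : (mapsInto X₀ Y₀)), F ((c : B →ₗ[K] A) + twist α β (ψ : B →ₗ[K] A)) (sh ψ) = F c (X.prod Y) :=
    fun ψ c => by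
      have he := shear_intertwine α β (c : B →ₗ[K] A) (ψ : B →ₗ[K] A)
      by_cases hi : Inv (blk α β c) (X.prod Y)
      · simp only [F, sh, if_pos hi, if_pos (inv_map_equiv (shear (ψ : B →ₗ[K] A)) he hi),
          alt_map_equiv (shear (ψ : B →ₗ[K] A)) he hi, chp_map_equiv (shear (ψ : B →ₗ[K] A)) he hi]
      · simp only [F, sh, if_neg hi]
        rw [if_neg fun hc => hi ?_]
        have := inv_comap_equiv (shear (ψ : B →ₗ[K] A)) he hc
        rwa [Submodule.comap_map_eq_of_injective (shear (ψ : B →ₗ[K] A)).injective] at this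
  have key : (Fintype.card C1 : ℂ) * ∑ c : (mapsInto X₀ Y₀), ∑ W ∈ L (X, Y), F c W =
      (Fintype.card (mapsInto X₀ Y₀) : ℂ) * ∑ c : (mapsInto X₀ Y₀), F c (X.prod Y) := by
    calc (Fintype.card C1 : ℂ) * ∑ c : (mapsInto X₀ Y₀), ∑ W ∈ L (X, Y), F c W
        = ∑ c : (mapsInto X₀ Y₀), ∑ ψ : (mapsInto X₀ Y₀), F c (sh ψ) := by
          rw [Finset.mul_sum]
          refine Finset.sum_congr rfl fun c _ => ?_
          rw [← Finset.sum_fiberwise_of_maps_to (fun ψ _ => hshL ψ), Finset.mul_sum]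
          refine Finset.sum_congr rfl fun W hW => ?_
          rw [Finset.sum_congr rfl (g := fun _ => F c W) fun ψ hψ => by
            rw [(Finset.mem_filter.1 hψ).2], Finset.sum_const, nsmul_eq_mul, hfib W hW]
      _ = ∑ ψ : (mapsInto X₀ Y₀), ∑ c : (mapsInto X₀ Y₀), F c (sh ψ) := Finset.sum_comm
      _ = ∑ ψ : (mapsInto X₀ Y₀), ∑ c : (mapsInto X₀ Y₀), F c (X.prod Y) := by
          refine Finset.sum_congr rfl fun ψ _ => ?_
          refine (Fintype.sum_equiv (Equiv.addRight (⟨_, htw ψ⟩ : (mapsInto X₀ Y₀))) _ _ fun c => ?_).symm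
          exact (hψ ψ c).symm
      _ = (Fintype.card (mapsInto X₀ Y₀) : ℂ) * ∑ c : (mapsInto X₀ Y₀), F c (X.prod Y) := by
          rw [Finset.sum_const, Finset.card_univ, nsmul_eq_mul]
  -- only the blocks preserving the product contribute, and they restrict onto all maps
  let res : C1 →+ (Y →ₗ[K] X) :=
    { toFun := fun c => (c : B →ₗ[K] A).restrict c.2.2
      map_zero' := LinearMap.ext fun y => Subtype.ext rfl
      map_add' := fun c c' => LinearMap.ext fun y => Subtype.ext rfl }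
  have hres : Function.Surjective res := fun d => by
    obtain ⟨c, ⟨hc1, hc0⟩, hcd⟩ := exists_extend_into Y₀ hXle d
    exact ⟨⟨c, hc0, hc1⟩, LinearMap.ext fun y => Subtype.ext (hcd y)⟩
  let ev : (Y →ₗ[K] X) → ℂ := fun d =>
    alt (blk (α.restrict hXi) (β.restrict hYi) d) ⊤ * Gw (chp α X * chp β Y)
  have hsum : ∑ c : (mapsInto X₀ Y₀), F c (X.prod Y) = ∑ c : C1, ev (res c) := by
    simp only [F, Finset.sum_ite, Finset.sum_const_zero, add_zero]
    refine Finset.sum_bij' (fun c hc => (⟨c, c.2, (inv_prod_iff hXi hYi _).1 (Finset.mem_filter.1 hc).2⟩ : C1))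
      (fun c _ => (⟨c, c.2.1⟩ : (mapsInto X₀ Y₀))) (fun _ _ => Finset.mem_univ _)
      (fun c _ => Finset.mem_filter.2 ⟨Finset.mem_univ _, (inv_prod_iff hXi hYi _).2 c.2.2⟩)
      (fun _ _ => rfl) (fun _ _ => rfl) fun c hc => ?_
    obtain ⟨h1, h2⟩ := alt_chp_prod hXi hYi (c : B →ₗ[K] A) ((inv_prod_iff hXi hYi _).1 (Finset.mem_filter.1 hc).2)
    rw [h1, h2]
    rfl
  have havg := avg_comp res hres ev
  have hC1 : (Fintype.card C1 : ℂ) ≠ 0 := Nat.cast_ne_zero.2 Fintype.card_ne_zero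
  have hD : (Fintype.card (Y →ₗ[K] X) : ℂ) ≠ 0 := Nat.cast_ne_zero.2 Fintype.card_ne_zero
  refine mul_left_cancel₀ hC1 (key.trans ?_)
  rw [hsum]
  have hR : avgAlt α β hXi hYi = (Fintype.card (Y →ₗ[K] X) : ℂ)⁻¹ *
      ∑ d : Y →ₗ[K] X, alt (blk (α.restrict hXi) (β.restrict hYi) d) ⊤ := by
    rw [avgAlt]; congr!
  rw [hR]
  refine mul_left_cancel₀ hD ?_
  rw [mul_left_comm, havg, ← Finset.sum_mul]
  field_simp

theorem avgAlt_bot : avgAlt α β (X := ⊥) (Y := ⊥) inv_bot inv_bot = 1 := by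
  classical
  unfold avgAlt
  rw [Finset.sum_congr rfl (g := fun _ => (1 : ℂ)) fun d _ => ?_, Finset.sum_const, nsmul_one]
  · exact inv_mul_cancel₀ (Nat.cast_ne_zero.2 (@Fintype.card_ne_zero _ (Fintype.ofFinite _) ⟨0⟩))
  rw [alt, if_pos]
  simp [finrank_top]

/-- The averaged Möbius function is the product of the two Möbius functions. -/
theorem avgAlt_eq : ∀ (d : ℕ) {X : Submodule K A} {Y : Submodule K B} (hX : Inv α X) (hY : Inv β Y),
    finrank K X + finrank K Y = d → avgAlt α β hX hY = alt α X * alt β Y := by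
  intro d
  induction d using Nat.strong_induction_on with
  | _ d ih =>
  intro X Y hX hY hd
  classical
  by_cases h0 : X = ⊥ ∧ Y = ⊥
  · obtain ⟨rfl, rfl⟩ := h0
    rw [avgAlt_bot, alt_bot, alt_bot, one_mul]
  haveI : Finite (B →ₗ[K] A) := Module.finite_of_finite K
  letI : Fintype (mapsInto X Y) := Fintype.ofFinite _
  have h := sum_blocks α β (fun _ => 1) hX hY
  have hW0 : X.prod Y ≠ ⊥ := fun h => h0 (by
    constructor <;> refine (Submodule.eq_bot_iff _).2 fun z hz => ?_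
    · have : ((z, 0) : A × B) ∈ X.prod Y := ⟨hz, Y.zero_mem⟩
      rw [h, Submodule.mem_bot] at this
      exact congrArg Prod.fst this
    · have : ((0, z) : A × B) ∈ X.prod Y := ⟨X.zero_mem, hz⟩
      rw [h, Submodule.mem_bot] at this
      exact congrArg Prod.snd this)
  simp only [mul_one] at h
  rw [Finset.sum_eq_zero (fun c _ => sum_alt (X.prod Y) ((inv_prod_iff hX hY _).2 c.2) hW0), eq_comm,
    mul_eq_zero, or_iff_right (Nat.cast_ne_zero.2 Fintype.card_ne_zero),
    ← Finset.sum_product'] at h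
  have h' : ∑ P ∈ below α X ×ˢ below β Y, alt α P.1 * alt β P.2 = 0 := by
    rw [Finset.sum_product, ← Finset.sum_mul_sum]
    rcases not_and_or.1 h0 with h1 | h1
    · rw [sum_alt X hX h1, zero_mul]
    · rw [sum_alt Y hY h1, mul_zero]
  have hmem : (X, Y) ∈ below α X ×ˢ below β Y :=
    Finset.mem_product.2 ⟨mem_below.2 ⟨hX, le_rfl⟩, mem_below.2 ⟨hY, le_rfl⟩⟩
  rw [← Finset.add_sum_erase _ _ hmem, dif_pos ⟨hX, hY⟩] at h
  rw [← Finset.add_sum_erase _ _ hmem] at h'
  have hrest : ∀ P ∈ (below α X ×ˢ below β Y).erase (X, Y),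
      (if h : Inv α P.1 ∧ Inv β P.2 then avgAlt α β h.1 h.2 else 0) = alt α P.1 * alt β P.2 := by
    intro P hP
    obtain ⟨hne, hP'⟩ := Finset.mem_erase.1 hP
    obtain ⟨h1, h2⟩ := Finset.mem_product.1 hP'
    obtain ⟨h1i, h1l⟩ := mem_below.1 h1
    obtain ⟨h2i, h2l⟩ := mem_below.1 h2
    rw [dif_pos ⟨h1i, h2i⟩]
    refine ih _ ?_ h1i h2i rfl
    have a1 : finrank K P.1 ≤ finrank K X := Submodule.finrank_mono h1l
    have a2 : finrank K P.2 ≤ finrank K Y := Submodule.finrank_mono h2l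
    by_contra hlt
    have e1 : finrank K P.1 = finrank K X := by linarith
    have e2 : finrank K P.2 = finrank K Y := by linarith
    exact hne (Prod.ext (Submodule.eq_of_le_of_finrank_eq h1l e1)
      (Submodule.eq_of_le_of_finrank_eq h2l e2))
  rw [Finset.sum_congr rfl hrest] at h
  exact add_right_cancel (h.trans h'.symm)

variable (p : ℕ) [hp : Fact p.Prime] {R : ValuationSubring ℂ} [CharP (Res R) p] (φ : K →+* Res R)

variable (α β) in
/-- **The sum over the off-diagonal blocks vanishes.** -/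
theorem sum_cusp_blk [Fintype (B →ₗ[K] A)] [Nontrivial A] [Nontrivial B] :
    ∑ c : B →ₗ[K] A, cusp p φ (blk α β c) = 0 := by
  classical
  haveI : Fintype (mapsInto (⊤ : Submodule K A) (⊤ : Submodule K B)) := Fintype.ofFinite _
  have hA : Inv α ⊤ := fun v _ => Submodule.mem_top
  have hB : Inv β ⊤ := fun v _ => Submodule.mem_top
  have h := sum_blocks α β (eigP p φ) hA hB
  rw [Submodule.prod_top] at h
  let E : (B →ₗ[K] A) ≃ mapsInto (⊤ : Submodule K A) (⊤ : Submodule K B) :=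
    { toFun := fun c => ⟨c, fun _ _ => Submodule.mem_top⟩
      invFun := fun c => c.1
      left_inv := fun c => rfl
      right_inv := fun c => rfl }
  have hE : ∀ c, ((E c : mapsInto (⊤ : Submodule K A) (⊤ : Submodule K B)) : B →ₗ[K] A) = c := fun c => rfl
  have e : ∑ c : B →ₗ[K] A, cusp p φ (blk α β c) =
      ∑ c : mapsInto (⊤ : Submodule K A) (⊤ : Submodule K B), cusp p φ (blk α β (c : B →ₗ[K] A)) := by
    rw [← Equiv.sum_comp E]
    exact Finset.sum_congr rfl fun c _ => by rw [hE]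
  simp only [cusp] at e ⊢
  rw [e, ← Finset.mul_sum, h]
  refine mul_eq_zero_of_right _ (mul_eq_zero_of_right _ ?_)
  calc _ = ∑ X ∈ below α ⊤, ∑ Y ∈ below β ⊤,
        alt α X * alt β Y * (eigP p φ (chp α X) + eigP p φ (chp β Y)) := by
        refine Finset.sum_congr rfl fun X hX => Finset.sum_congr rfl fun Y hY => ?_
        obtain ⟨hXi, -⟩ := mem_below.1 hX
        obtain ⟨hYi, -⟩ := mem_below.1 hY
        rw [dif_pos ⟨hXi, hYi⟩, avgAlt_eq _ hXi hYi rfl,
          eigP_mul p φ (chp_ne_zero hXi) (chp_ne_zero hYi)]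
    _ = (∑ X ∈ below α ⊤, alt α X * eigP p φ (chp α X)) * (∑ Y ∈ below β ⊤, alt β Y) +
        (∑ X ∈ below α ⊤, alt α X) * (∑ Y ∈ below β ⊤, alt β Y * eigP p φ (chp β Y)) := by
        rw [Finset.sum_mul_sum, Finset.sum_mul_sum, ← Finset.sum_add_distrib]
        refine Finset.sum_congr rfl fun X _ => ?_
        rw [← Finset.sum_add_distrib]
        exact Finset.sum_congr rfl fun Y _ => by ring
    _ = 0 := by
        rw [sum_alt ⊤ hA top_ne_bot, sum_alt ⊤ hB top_ne_bot, mul_zero, zero_mul, add_zero]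

/-- Two coprime blocks force vanishing. -/
theorem cusp_blk_eq_zero [Nontrivial A] [Nontrivial B] (hco : IsCoprime α.charpoly β.charpoly)
    (c : B →ₗ[K] A) : cusp p φ (blk α β c) = 0 := by
  classical
  haveI : Finite (B →ₗ[K] A) := Module.finite_of_finite K
  letI := Fintype.ofFinite (B →ₗ[K] A)
  have hinj : Function.Injective (twist α β) := by
    refine (injective_iff_map_eq_zero _).2 fun ψ hψ => ?_
    have hcomm : ∀ b, ψ (β b) = α (ψ b) := fun b =>
      sub_eq_zero.1 ((twist_apply α β ψ b).symm.trans (LinearMap.congr_fun hψ b))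
    have hpoly : ∀ (s : K[X]) (b : B), ψ (aeval β s b) = aeval α s (ψ b) := by
      intro s
      induction s using Polynomial.induction_on with
      | C r => intro b; simp
      | add s t hs ht => intro b; simp [hs, ht]
      | monomial k r ih =>
        intro b
        rw [pow_succ, ← mul_assoc, map_mul (aeval β) (C r * X ^ k) X, map_mul (aeval α) (C r * X ^ k) X,
          Module.End.mul_apply, Module.End.mul_apply, aeval_X, aeval_X, ih, hcomm]
    obtain ⟨s, t, hst⟩ := hco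
    refine LinearMap.ext fun b => ?_
    have h1 := hpoly (s * α.charpoly + t * β.charpoly) b
    rw [hst, map_one, Module.End.one_apply] at h1
    have h2 : aeval α (t * β.charpoly) (ψ b) = 0 := by
      rw [← hpoly, map_mul, Module.End.mul_apply, LinearMap.aeval_self_charpoly,
        LinearMap.zero_apply, map_zero, map_zero]
    have h3 : aeval α (s * α.charpoly) (ψ b) = 0 := by
      rw [map_mul, Module.End.mul_apply, LinearMap.aeval_self_charpoly, LinearMap.zero_apply, map_zero]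
    have h4 := congrArg (fun s : K[X] => aeval α s (ψ b)) hst
    simp only [map_add, LinearMap.add_apply, h2, h3, add_zero, map_one, Module.End.one_apply] at h4
    exact h4.symm
  have hsurj : Function.Surjective (twist α β) := LinearMap.injective_iff_surjective.1 hinj
  have hall : ∀ c' : B →ₗ[K] A, cusp p φ (blk α β c') = cusp p φ (blk α β c) := fun c' => by
    obtain ⟨ψ, hψ⟩ := hsurj (c' - c)
    refine cusp_equiv p φ (shear ψ) fun x => ?_
    rw [shear_intertwine, hψ, add_sub_cancel]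
  have h := sum_cusp_blk α β p φ
  rw [Finset.sum_congr rfl fun c' _ => hall c', Finset.sum_const, Finset.card_univ, nsmul_eq_mul] at h
  exact (mul_eq_zero.1 h).resolve_left (Nat.cast_ne_zero.2 Fintype.card_ne_zero)

end CfsgLib.Cuspidal
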