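import Mathlib

/-!
# Operators annihilated by an irreducible polynomial

The invertible operators annihilated by an irreducible polynomial, counted by transporting a module
over its root field.
-/

set_option autoImplicit false
set_option linter.style.haveILetI false
set_option linter.unusedSectionVars false

namespace CfsgLib.Cuspidal

open Module Polynomial

universe v w

variable {K : Type v} [Field K] [Finite K]
variable {V : Type w} [AddCommGroup V] [Module K V] [FiniteDimensional K V] [Finite V]

theorem natCard_GL_extField {L : Type*} [Field L] [Finite L] (N : ℕ) :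
    Nat.card ((Fin N → L) ≃ₗ[L] (Fin N → L)) =
      ∏ i ∈ Finset.range N, (Nat.card L ^ N - Nat.card L ^ i) := by
  letI := Fintype.ofFinite L
  rw [← Nat.card_congr ((LinearMap.GeneralLinearGroup.generalLinearEquiv L (Fin N → L)).toEquiv),
    ← Nat.card_congr (Matrix.GeneralLinearGroup.toLin (n := Fin N) (R := L)).toEquiv,
    Matrix.card_GL_field, Nat.card_eq_fintype_card, ← Fin.prod_univ_eq_prod_range]

/-- **Orbit counting for operators with a given irreducible minimal polynomial.** -/
theorem card_kill_mul (f : K[X]) [hf : Fact (Irreducible f)] (hX : AdjoinRoot.root f ≠ 0) {N : ℕ}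
    (hdim : finrank K V = N * f.natDegree) :
    Nat.card {g : (Module.End K V)ˣ // aeval (g : Module.End K V) f = 0} *
        ∏ i ∈ Finset.range N, ((Nat.card K ^ f.natDegree) ^ N - (Nat.card K ^ f.natDegree) ^ i) =
      Nat.card (Module.End K V)ˣ := by
  classical
  let L := AdjoinRoot f
  haveI : FiniteDimensional K L := (AdjoinRoot.powerBasis hf.out.ne_zero).finite
  haveI : Finite L := Module.finite_of_finite K
  have hLd : finrank K L = f.natDegree := by
    rw [(AdjoinRoot.powerBasis hf.out.ne_zero).finrank, AdjoinRoot.powerBasis_dim]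
  have hLc : Nat.card L = Nat.card K ^ f.natDegree := by
    rw [Module.natCard_eq_pow_finrank (K := K), hLd]
  have hfr : finrank K (Fin N → L) = finrank K V := by
    rw [Module.finrank_pi_fintype, Finset.sum_const, Finset.card_univ, Fintype.card_fin, hLd,
      smul_eq_mul, hdim]
  let E := (Fin N → L) ≃ₗ[K] V
  let e₁ : E := LinearEquiv.ofFinrankEq _ _ hfr
  let eE : E ≃ (V ≃ₗ[K] V) :=
    { toFun := fun e => e₁.symm.trans e
      invFun := fun e => e₁.trans e
      left_inv := fun e => by ext x; simp
      right_inv := fun e => by ext x; simp }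
  have hE : Nat.card E = Nat.card (Module.End K V)ˣ := by
    rw [Nat.card_congr eE,
      ← Nat.card_congr (LinearMap.GeneralLinearGroup.generalLinearEquiv K V).toEquiv]
  -- multiplication by the root
  let mr : (Fin N → L) ≃ₗ[K] (Fin N → L) :=
    { toFun := fun x => AdjoinRoot.root f • x
      map_add' := smul_add _
      map_smul' := fun c x => smul_comm _ c x
      invFun := fun x => (AdjoinRoot.root f)⁻¹ • x
      left_inv := fun x => inv_smul_smul₀ hX x
      right_inv := fun x => smul_inv_smul₀ hX x }
  have hmk : ∀ (e : E) (T : Module.End K V), (∀ x, e (AdjoinRoot.root f • x) = T (e x)) →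
      ∀ (P : K[X]) (x : Fin N → L), e (AdjoinRoot.mk f P • x) = aeval T P (e x) := by
    intro e T he P
    induction P using Polynomial.induction_on with
    | C c =>
      intro x
      rw [AdjoinRoot.mk_C, aeval_C, ← AdjoinRoot.algebraMap_eq, algebraMap_smul, map_smul,
        Module.algebraMap_end_apply]
    | add P Q hP hQ =>
      intro x
      rw [map_add, add_smul, map_add, hP, hQ, map_add, LinearMap.add_apply]
    | monomial k c ih =>
      intro x
      rw [pow_succ, ← mul_assoc, map_mul (AdjoinRoot.mk f) (C c * X ^ k) X, AdjoinRoot.mk_X,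
        mul_smul, ih, he, map_mul (aeval T) (C c * X ^ k) X, Module.End.mul_apply, aeval_X]
  let u : E → (Module.End K V)ˣ := fun e =>
    (LinearMap.GeneralLinearGroup.generalLinearEquiv K V).symm ((e.symm.trans mr).trans e)
  have hu : ∀ (e : E) (x : Fin N → L), e (AdjoinRoot.root f • x) = (u e : Module.End K V) (e x) :=
    fun e x => by
    show _ = e (AdjoinRoot.root f • e.symm (e x))
    rw [e.symm_apply_apply]
  have hkill : ∀ e, aeval (u e : Module.End K V) f = 0 := fun e => by
    refine LinearMap.ext fun v => ?_
    obtain ⟨x, rfl⟩ := e.surjective v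
    rw [← hmk e _ (hu e) f x, AdjoinRoot.mk_self, zero_smul, map_zero, LinearMap.zero_apply]
  let S := {g : (Module.End K V)ˣ // aeval (g : Module.End K V) f = 0}
  let π : E → S := fun e => ⟨u e, hkill e⟩
  have hfib : ∀ g : S, Nat.card {e // π e = g} = Nat.card ((Fin N → L) ≃ₗ[L] (Fin N → L)) := by
    rintro ⟨g, hg⟩
    -- a module structure over the root field
    let φ : L →+* Module.End K V := Ideal.Quotient.lift (Ideal.span {f})
      (aeval (g : Module.End K V)).toRingHom (fun P hP => by
        obtain ⟨c, rfl⟩ := Ideal.mem_span_singleton'.1 hP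
        show aeval (g : Module.End K V) (c * f) = 0
        rw [map_mul, hg, mul_zero])
    have hφ : ∀ P, φ (AdjoinRoot.mk f P) = aeval (g : Module.End K V) P := fun P => rfl
    letI : Module L V := Module.compHom V φ
    have hsm : ∀ (l : L) (v : V), l • v = φ l v := fun l v => rfl
    haveI : IsScalarTower K L V := IsScalarTower.of_algebraMap_smul fun c v => by
      rw [hsm, AdjoinRoot.algebraMap_eq, ← AdjoinRoot.mk_C, hφ, aeval_C, Module.algebraMap_end_apply]
    haveI : Module.Finite L V := Module.Finite.of_restrictScalars_finite K L V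
    have hN : finrank L V = N := by
      have h := Module.finrank_mul_finrank K L V
      rw [hLd, hdim] at h
      refine Nat.eq_of_mul_eq_mul_left ?_ (h.trans (mul_comm _ _))
      exact Irreducible.natDegree_pos hf.out
    let e₀L : (Fin N → L) ≃ₗ[L] V := LinearEquiv.ofFinrankEq _ _ (by rw [Module.finrank_fin_fun, hN])
    let e₀ : E := e₀L.restrictScalars K
    have he₀ : ∀ (e : E), u e = g ↔ ∀ x, e (AdjoinRoot.root f • x) = AdjoinRoot.root f • e x := by
      intro e
      have hr : ∀ v, AdjoinRoot.root f • v = (g : Module.End K V) v := fun v => by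
        rw [hsm, ← AdjoinRoot.mk_X, hφ, aeval_X]
      constructor
      · intro h x; rw [hu, h, hr]
      · intro h
        refine Units.ext (LinearMap.ext fun v => ?_)
        obtain ⟨x, rfl⟩ := e.surjective v
        rw [← hu, h, hr]
    have hlin : ∀ e : E, u e = g → ∀ (l : L) (x : Fin N → L), e (l • x) = l • e x := by
      intro e he l x
      obtain ⟨P, rfl⟩ := AdjoinRoot.mk_surjective l
      rw [hmk e _ (hu e) P x, he, hsm, hφ]
    refine Nat.card_congr
      { toFun := fun e => ({ e.1 with map_smul' := hlin e.1 (congrArg Subtype.val e.2) } :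
          (Fin N → L) ≃ₗ[L] V).trans e₀L.symm
        invFun := fun a => ⟨(a.trans e₀L).restrictScalars K, Subtype.ext ((he₀ _).2 fun x =>
          (a.trans e₀L).map_smul _ _)⟩
        left_inv := fun e => Subtype.ext (LinearEquiv.ext fun x => e₀L.apply_symm_apply _)
        right_inv := fun a => LinearEquiv.ext fun x => e₀L.symm_apply_apply _ }
  haveI : Finite (Module.End K V) := Module.finite_of_finite K
  haveI : Finite (V ≃ₗ[K] V) := Finite.of_injective _ LinearEquiv.toLinearMap_injective
  haveI : Finite E := Finite.of_equiv _ eE.symm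
  letI : Fintype S := Fintype.ofFinite S
  rw [← hLc, ← natCard_GL_extField N, ← hE, ← Nat.card_congr (Equiv.sigmaFiberEquiv π), Nat.card_sigma,
    Finset.sum_congr rfl fun g _ => hfib g, Finset.sum_const, smul_eq_mul, Finset.card_univ,
    Fintype.card_eq_nat_card]

end CfsgLib.Cuspidal
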