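import Cfsg.Agent.Lib.Cuspidal.Const

/-!
# Values of the cuspidal function at semisimple operators

Constant terms along a subspace, vanishing at semisimple operators with two different irreducible
factors, and the value at an operator with a single irreducible factor.
-/

set_option autoImplicit false
set_option linter.style.haveILetI false
set_option linter.unusedSectionVars false

namespace CfsgLib.Cuspidal

open Cfsg CfsgLib.BrauerChar CfsgLib.CharsMore.St.Mobius Module Polynomial
open CfsgLib.CharsMore.St.GLValue (alt sum_alt)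
open UniqueFactorizationMonoid (normalizedFactors)

universe v w

variable {K : Type v} [Field K] [Finite K]
variable {V : Type w} [AddCommGroup V] [Module K V] [FiniteDimensional K V] [Finite V]
variable (p : ℕ) [hp : Fact p.Prime] {R : ValuationSubring ℂ} [CharP (Res R) p] (φ : K →+* Res R)

/-- An invariant subspace with a complement gives a block decomposition. -/
theorem exists_blocks {A B : Submodule K V} (h : IsCompl A B) {T : Module.End K V} (hA : Inv T A) :
    ∃ (β : Module.End K B) (c₀ : B →ₗ[K] A), (∀ δ : B →ₗ[K] A,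
      cusp p φ (T + A.subtype ∘ₗ δ ∘ₗ (Submodule.projectionOnto B A h.symm)) =
        cusp p φ (blk (T.restrict hA) β (c₀ + δ))) ∧
      ((Inv T B → ∀ b, (β b : V) = T b)) := by
  refine ⟨Submodule.projectionOnto B A h.symm ∘ₗ T ∘ₗ B.subtype,
    Submodule.projectionOnto A B h ∘ₗ T ∘ₗ B.subtype, fun δ => ?_, fun hB b => ?_⟩
  · refine cusp_equiv p φ (Submodule.prodEquivOfIsCompl A B h) fun x => ?_
    obtain ⟨a, b⟩ := x
    simp only [Submodule.coe_prodEquivOfIsCompl', blk_apply, LinearMap.add_apply, LinearMap.comp_apply,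
      Submodule.subtype_apply, Submodule.coe_add, map_add]
    rw [Submodule.projectionOnto_apply_of_mem_right h.symm a.2, map_zero, Submodule.coe_zero, add_zero,
      Submodule.projectionOnto_apply_left h.symm b]
    rw [show ((T.restrict hA a : A) : V) = T a from rfl]
    have h1 : (A.projectionOnto B h (T (b : V)) : V) + (B.projectionOnto A h.symm (T (b : V)) : V) =
        T (b : V) :=
      (Submodule.prodEquivOfIsCompl A B h).apply_symm_apply (T (b : V)) |> fun e => by
        rw [Submodule.prodEquivOfIsCompl_symm_apply] at e; exact e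
    conv_rhs => arg 2; arg 1; rw [← h1]
    abel
  · exact congrArg Subtype.val (Submodule.projectionOnto_apply_left h.symm ⟨T b, hB b b.2⟩)

/-- **The constant term along a subspace vanishes.** -/
theorem sum_cusp_shift {A : Submodule K V} (h0 : A ≠ ⊥) (h1 : A ≠ ⊤) {T : Module.End K V}
    (hA : Inv T A) [Fintype ((V ⧸ A) →ₗ[K] A)] :
    ∑ c : (V ⧸ A) →ₗ[K] A, cusp p φ (T + A.subtype ∘ₗ c ∘ₗ A.mkQ) = 0 := by
  classical
  obtain ⟨B, h⟩ := A.exists_isCompl
  obtain ⟨β, c₀, hβ, -⟩ := exists_blocks p φ h hA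
  haveI : Nontrivial A := Submodule.nontrivial_iff_ne_bot.2 h0
  haveI : Nontrivial B := Submodule.nontrivial_iff_ne_bot.2 fun hB => h1 (by
    have := h.sup_eq_top
    rwa [hB, sup_bot_eq] at this)
  haveI : Finite (B →ₗ[K] A) := Module.finite_of_finite K
  letI := Fintype.ofFinite (B →ₗ[K] A)
  let E : ((V ⧸ A) →ₗ[K] A) ≃ (B →ₗ[K] A) :=
    { toFun := fun c => c ∘ₗ (A.quotientEquivOfIsCompl B h).symm.toLinearMap
      invFun := fun d => d ∘ₗ (A.quotientEquivOfIsCompl B h).toLinearMap
      left_inv := fun c => LinearMap.ext fun x =>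
        congrArg c ((A.quotientEquivOfIsCompl B h).symm_apply_apply x)
      right_inv := fun d => LinearMap.ext fun x =>
        congrArg d ((A.quotientEquivOfIsCompl B h).apply_symm_apply x) }
  have key : ∀ c, cusp p φ (T + A.subtype ∘ₗ c ∘ₗ A.mkQ) =
      cusp p φ (blk (T.restrict hA) β (c₀ + E c)) := fun c => by
    rw [← hβ (E c)]
    congr 1
    refine LinearMap.ext fun v => ?_
    obtain ⟨a, ha, b, hb, rfl⟩ := Submodule.mem_sup.1 (h.sup_eq_top ▸ Submodule.mem_top : v ∈ A ⊔ B)
    simp only [LinearMap.add_apply, LinearMap.comp_apply, map_add]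
    rw [Submodule.projectionOnto_apply_of_mem_right h.symm ha,
      show A.mkQ a = 0 from (Submodule.Quotient.mk_eq_zero A).2 ha,
      show Submodule.projectionOnto B A h.symm b = ⟨b, hb⟩ from
        Submodule.projectionOnto_apply_left h.symm ⟨b, hb⟩]
    simp only [map_zero]
    show _ = _ + (_ + A.subtype (c ((A.quotientEquivOfIsCompl B h).symm ⟨b, hb⟩)))
    rw [Submodule.quotientEquivOfIsCompl_symm_apply]
    rfl
  rw [Finset.sum_congr rfl fun c _ => key c, E.sum_comp (fun d => cusp p φ (blk (T.restrict hA) β (c₀ + d)))]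
  exact (Fintype.sum_equiv (Equiv.addLeft c₀) _ _ fun d => rfl).trans
    (sum_cusp_blk (T.restrict hA) β p φ)

variable {T : Module.End K V}

open scoped Classical in
theorem exists_simp_of_factor (hT : T.IsSemisimple) {W : Submodule K V} (hW : Inv T W) {g : K[X]}
    (hg : g ∈ normalizedFactors (chp T W)) : ∃ b ≤ W, IsSimp T b ∧ chp T b = g := by
  induction hn : finrank K W using Nat.strong_induction_on generalizing W with
  | _ n ih =>
  subst hn
  by_cases h0 : W = ⊥
  · subst h0
    rw [eq_one_of_monic_natDegree_zero (chp_monic hW) (by rw [chp_natDegree hW, finrank_bot]),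
      UniqueFactorizationMonoid.normalizedFactors_one] at hg
    simp at hg
  obtain ⟨a, haW, ha⟩ := exists_simp hW h0
  obtain ⟨U, hU, hd, hs⟩ := exists_compl hT ha.1 hW haW
  rw [nf_sup ha hU hd hs, Multiset.mem_cons] at hg
  rcases hg with rfl | hg
  · exact ⟨a, haW, ha, rfl⟩
  · have hlt : finrank K U < finrank K W := by
      have := finrank_sup_eq hd hs
      have := finrank_pos_of_simp ha
      omega
    obtain ⟨b, hb, hb', hbg⟩ := ih _ hlt hU hg rfl
    exact ⟨b, hb.trans (hs ▸ le_sup_right), hb', hbg⟩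

open scoped Classical in
/-- The factors of a subspace killed by an irreducible polynomial. -/
theorem factor_eq_of_kills (hT : T.IsSemisimple) {W : Submodule K V} (hW : Inv T W) {f : K[X]}
    (hf : Irreducible f) (hfm : f.Monic) (hk : Kills T f W) {g : K[X]}
    (hg : g ∈ normalizedFactors (chp T W)) : g = f := by
  obtain ⟨b, hbW, hb, rfl⟩ := exists_simp_of_factor hT hW hg
  by_contra hne
  obtain ⟨v, hv, hv0⟩ := Submodule.exists_mem_ne_zero_of_ne_bot hb.2.1
  obtain ⟨r, s, hrs⟩ := ((irreducible_chp hb).coprime_iff_not_dvd).2 fun hd => hne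
    (eq_of_monic_of_associated (chp_monic hb.1) hfm ((irreducible_chp hb).associated_of_dvd hf hd))
  apply hv0
  have h := congrArg (fun t : K[X] => aeval T t v) hrs
  simp only [map_add, map_mul, LinearMap.add_apply, Module.End.mul_apply, aeval_chp hb.1 hv,
    hk v (hbW hv), map_zero, add_zero, map_one, Module.End.one_apply] at h
  exact h.symm

open scoped Classical in
/-- **A semisimple operator with two irreducible factors is sent to zero.** -/
theorem cusp_eq_zero_or_primary (hT : T.IsSemisimple) :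
    cusp p φ T = 0 ∨ ∃ f : K[X], Irreducible f ∧ f.Monic ∧ aeval T f = 0 := by
  by_cases htriv : (⊤ : Submodule K V) = ⊥
  · left
    rw [cusp, Finset.sum_eq_zero, mul_zero]
    intro W hW
    have : W = ⊥ := le_bot_iff.1 (htriv ▸ le_top)
    subst this
    rw [eq_one_of_monic_natDegree_zero (chp_monic inv_bot) (by rw [chp_natDegree inv_bot, finrank_bot]),
      eigP_one, mul_zero]
  obtain ⟨a, -, ha⟩ := exists_simp (T := T) (fun v _ => Submodule.mem_top) htriv
  set f := chp T a
  have hf : Irreducible f := irreducible_chp ha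
  let A := LinearMap.ker (aeval T f)
  have hA : Inv T A := fun v hv => by
    rw [LinearMap.mem_ker] at hv ⊢
    rw [← Module.End.mul_apply, show aeval T f * T = T * aeval T f by
      nth_rewrite 2 [← aeval_X (R := K) T]; nth_rewrite 3 [← aeval_X (R := K) T]
      rw [← map_mul, ← map_mul, mul_comm], Module.End.mul_apply, hv, map_zero]
  by_cases hAtop : A = ⊤
  · exact .inr ⟨f, hf, chp_monic ha.1, LinearMap.ker_eq_top.1 hAtop⟩
  left
  obtain ⟨B, hB, hd, hs⟩ := exists_compl hT hA (fun v _ => Submodule.mem_top) le_top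
  have hc : IsCompl A B := ⟨hd, codisjoint_iff.2 hs⟩
  have hA0 : A ≠ ⊥ := fun h => ha.2.1 (le_bot_iff.1 (h ▸ fun v hv =>
    LinearMap.mem_ker.2 (aeval_chp ha.1 hv)))
  haveI : Nontrivial A := Submodule.nontrivial_iff_ne_bot.2 hA0
  haveI : Nontrivial B := Submodule.nontrivial_iff_ne_bot.2 fun h => hAtop (by
    rw [h, sup_bot_eq] at hs; exact hs)
  obtain ⟨β, c₀, hβ, hβB⟩ := exists_blocks p φ hc hA
  have h0 := hβ 0
  rw [LinearMap.zero_comp, LinearMap.comp_zero, add_zero, add_zero] at h0
  rw [h0]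
  refine cusp_blk_eq_zero p φ ?_ c₀
  rw [show β = T.restrict hB from LinearMap.ext fun b => Subtype.ext (hβB hB b),
    ← chp_eq hA, ← chp_eq hB]
  refine (UniqueFactorizationMonoid.isRelPrime_iff_no_prime_factors (chp_ne_zero hA) |>.2 ?_).isCoprime
  intro g hgA hgB hg
  obtain ⟨gA, hgA', hgAe⟩ := UniqueFactorizationMonoid.exists_mem_normalizedFactors_of_dvd
    (chp_ne_zero hA) hg.irreducible hgA
  obtain ⟨gB, hgB', hgBe⟩ := UniqueFactorizationMonoid.exists_mem_normalizedFactors_of_dvd
    (chp_ne_zero hB) hg.irreducible hgB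
  have hAf := factor_eq_of_kills hT hA hf (chp_monic ha.1) (fun v hv => hv) hgA'
  obtain ⟨b, hbB, hb, hbg⟩ := exists_simp_of_factor hT hB hgB'
  have hbA : b ≤ A := fun v hv => LinearMap.mem_ker.2 (by
    have : chp T b = f := by
      rw [hbg, ← hAf]
      exact eq_of_monic_of_associated (hbg ▸ chp_monic hb.1) (hAf ▸ chp_monic ha.1)
        (hgBe.symm.trans hgAe)
    rw [← this]; exact aeval_chp hb.1 hv)
  exact hb.2.1 (le_bot_iff.1 ((le_inf hbA hbB).trans hd.eq_bot.le))

open scoped Classical in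
/-- The number of irreducible factors. -/
noncomputable def cnt (T : Module.End K V) (U : Submodule K V) : ℕ :=
  Multiset.card (normalizedFactors (chp T U))

open scoped Classical in
theorem nf_replicate {f : K[X]} {U : Submodule K V} (h : ∀ g ∈ normalizedFactors (chp T U), g = f) :
    normalizedFactors (chp T U) = Multiset.replicate (cnt T U) f :=
  Multiset.eq_replicate_card.2 h

open scoped Classical in
/-- Splitting a weighted sum along a simple subspace with complement. -/
theorem sum_split (hT : T.IsSemisimple) {a H H' : Submodule K V} (ha : IsSimp T a)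
    (hH' : Inv T H') (hd : Disjoint a H') (hs : a ⊔ H' = H)
    (hf : ∀ g ∈ normalizedFactors (chp T H), g = chp T a) (h : ℕ → ℂ) :
    ∑ U ∈ below T H, alt T U * h (cnt T U) =
      ∑ U ∈ below T H', alt T U *
        -(((Nat.card K ^ (chp T a).natDegree : ℕ) : ℂ) ^ cnt T U * (h (cnt T U + 1) - h (cnt T U))) := by
  have hH : Inv T H := hs ▸ inv_sup ha.1 hH'
  have haH : a ≤ H := hs ▸ le_sup_left
  have hμ : ∀ W, Inv T W → W ≠ ⊥ → ∑ U ∈ below T W, alt T U = 0 := fun W h1 h2 => sum_alt W h1 h2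
  rw [← Finset.sum_fiberwise_of_maps_to (t := (below T H).filter (a ≤ ·)) (g := fun U => U ⊔ a)
    fun U hU => by
      obtain ⟨h1, h2⟩ := mem_below.1 hU
      exact Finset.mem_filter.2 ⟨mem_below.2 ⟨inv_sup h1 ha.1, sup_le h2 haH⟩, le_sup_right⟩]
  refine Finset.sum_bij' (fun W _ => W ⊓ H') (fun U _ => U ⊔ a) (fun W hW => ?_) (fun U hU => ?_)
    (fun W hW => ?_) (fun U hU => ?_) fun W hW => ?_
  · obtain ⟨h1, -⟩ := Finset.mem_filter.1 hW
    exact mem_below.2 ⟨inv_inf (mem_below.1 h1).1 hH', inf_le_right⟩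
  · obtain ⟨h1, h2⟩ := mem_below.1 hU
    exact Finset.mem_filter.2 ⟨mem_below.2 ⟨inv_sup h1 ha.1, sup_le (h2.trans (hs ▸ le_sup_right)) haH⟩,
      le_sup_right⟩
  · obtain ⟨h1, h2⟩ := Finset.mem_filter.1 hW
    rw [inf_sup_assoc_of_le H' h2, sup_comm H' a, hs]
    exact inf_of_le_left (mem_below.1 h1).2
  · obtain ⟨-, h2⟩ := mem_below.1 hU
    rw [sup_inf_assoc_of_le a h2, hd.eq_bot, sup_bot_eq]
  obtain ⟨hW1, haW⟩ := Finset.mem_filter.1 hW
  obtain ⟨hWi, hWH⟩ := mem_below.1 hW1
  set U₀ := W ⊓ H'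
  have hU₀ : Inv T U₀ := inv_inf hWi hH'
  have hd₀ : Disjoint a U₀ := hd.mono_right inf_le_right
  have hs₀ : a ⊔ U₀ = W := by
    rw [sup_comm, inf_sup_assoc_of_le H' haW, sup_comm H' a, hs, inf_of_le_left hWH]
  have hcnt : ∀ U, Inv T U → Disjoint a U → a ⊔ U = W → cnt T W = cnt T U + 1 := fun U h1 h2 h3 => by
    rw [cnt, cnt, nf_sup ha h1 h2 h3, Multiset.card_cons]
  have hU₀c := hcnt U₀ hU₀ hd₀ hs₀
  have hWmem : W ∈ (below T H).filter (fun U => U ⊔ a = W) :=
    Finset.mem_filter.2 ⟨hW1, sup_of_le_left haW⟩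
  have hfil : (below T H).filter (fun U => U ⊔ a = W) = (below T W).filter (fun U => U ⊔ a = W) := by
    ext U
    simp only [Finset.mem_filter, mem_below]
    exact ⟨fun ⟨⟨h1, _⟩, h3⟩ => ⟨⟨h1, h3 ▸ le_sup_left⟩, h3⟩, fun ⟨⟨h1, h2⟩, h3⟩ => ⟨⟨h1, h2.trans hWH⟩, h3⟩⟩
  have hw := weisner hμ ha.1 ha.2.1 hWi haW
  rw [← hfil, ← Finset.add_sum_erase _ _ hWmem] at hw
  have hothers : ∀ U ∈ ((below T H).filter (fun U => U ⊔ a = W)).erase W, cnt T U = cnt T U₀ := by
    intro U hU
    obtain ⟨hne, hU'⟩ := Finset.mem_erase.1 hU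
    obtain ⟨hU'', hsup⟩ := Finset.mem_filter.1 hU'
    have hUi := (mem_below.1 hU'').1
    have hdU : Disjoint a U := disjoint_iff.2
      ((ha.2.2 _ (inv_inf ha.1 hUi) inf_le_left).resolve_right fun h =>
        hne (by rw [← hsup, sup_of_le_left (inf_eq_left.1 h)]))
    have := hcnt U hUi hdU (by rw [sup_comm, hsup])
    omega
  rw [← Finset.add_sum_erase _ _ hWmem,
    Finset.sum_congr rfl (g := fun U => alt T U * h (cnt T U₀)) fun U hU => by rw [hothers U hU],
    ← Finset.sum_mul, eq_neg_of_add_eq_zero_right hw, hU₀c]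
  have hsub : ∀ g ∈ normalizedFactors (chp T U₀), g = chp T a := fun g hg => by
    obtain ⟨b, hb, hb', rfl⟩ := exists_simp_of_factor hT hU₀ hg
    obtain ⟨B', hB', hdB', hsB'⟩ := exists_compl hT hb'.1 hH (hb.trans (inf_le_left.trans hWH))
    exact hf _ (by rw [nf_sup hb' hB' hdB' hsB']; exact Multiset.mem_cons_self _ _)
  rw [mobius_eq hT alt_bot hμ hWi, mobius_eq hT alt_bot hμ hU₀, nf_sup ha hU₀ hd₀ hs₀, weight_cons,
    show (normalizedFactors (chp T U₀)).count (chp T a) = cnt T U₀ by
      rw [nf_replicate hsub, Multiset.count_replicate_self]]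
  ring

open scoped Classical in
theorem sum_alt_pow (hT : T.IsSemisimple) {f : K[X]} {H : Submodule K V} (hH : Inv T H)
    (hf : ∀ g ∈ normalizedFactors (chp T H), g = f) (x : ℂ) :
    ∑ U ∈ below T H, alt T U * x ^ cnt T U =
      ∏ i ∈ Finset.range (cnt T H), (1 - ((Nat.card K ^ f.natDegree : ℕ) : ℂ) ^ i * x) := by
  induction hn : finrank K H using Nat.strong_induction_on generalizing H x with
  | _ n ih =>
  subst hn
  by_cases h0 : H = ⊥
  · subst h0
    have hc : cnt T (⊥ : Submodule K V) = 0 := by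
      rw [cnt, eq_one_of_monic_natDegree_zero (chp_monic hH) (by rw [chp_natDegree hH, finrank_bot]),
        UniqueFactorizationMonoid.normalizedFactors_one, Multiset.card_zero]
    rw [Finset.sum_eq_single ⊥ (fun U hU hne => absurd (le_bot_iff.1 (mem_below.1 hU).2) hne)
      (fun h => absurd (mem_below.2 ⟨inv_bot, le_rfl⟩) h), alt_bot, hc]
    simp
  obtain ⟨a, haH, ha⟩ := exists_simp hH h0
  obtain ⟨H', hH', hd, hs⟩ := exists_compl hT ha.1 hH haH
  have hnf := nf_sup ha hH' hd hs
  have hfa : chp T a = f := hf _ (by rw [hnf]; exact Multiset.mem_cons_self _ _)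
  have hlt : finrank K H' < finrank K H := by
    have := finrank_sup_eq hd hs
    have := finrank_pos_of_simp ha
    omega
  have hf' : ∀ g ∈ normalizedFactors (chp T H'), g = f := fun g hg =>
    hf g (by rw [hnf]; exact Multiset.mem_cons_of_mem hg)
  rw [sum_split hT ha hH' hd hs (hfa ▸ hf) fun k => x ^ k, hfa,
    show cnt T H = cnt T H' + 1 by rw [cnt, cnt, hnf, Multiset.card_cons], Finset.prod_range_succ']
  have := ih _ hlt hH' hf' ((((Nat.card K ^ f.natDegree : ℕ) : ℂ)) * x) rfl
  rw [show ∏ k ∈ Finset.range (cnt T H'), (1 - ((Nat.card K ^ f.natDegree : ℕ) : ℂ) ^ (k + 1) * x) =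
    ∏ k ∈ Finset.range (cnt T H'),
      (1 - ((Nat.card K ^ f.natDegree : ℕ) : ℂ) ^ k * (((Nat.card K ^ f.natDegree : ℕ) : ℂ) * x)) from
    Finset.prod_congr rfl fun k _ => by ring, ← this, Finset.sum_mul]
  exact Finset.sum_congr rfl fun U _ => by ring

open scoped Classical in
/-- **The value at a primary semisimple operator.** -/
theorem cusp_primary (hV : 0 < finrank K V) {f : K[X]} (hf : Irreducible f) (hfm : f.Monic)
    (hTf : aeval T f = 0) :
    ∃ N : ℕ, finrank K V = N * f.natDegree ∧ T.charpoly = f ^ N ∧ 0 < N ∧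
      alt T ⊤ = (-1) ^ N * ((Nat.card K ^ f.natDegree : ℕ) : ℂ) ^ N.choose 2 ∧
      cusp p φ T = (-1) ^ finrank K V *
        (-(eigP p φ f * ∏ i ∈ Finset.range (N - 1), (1 - ((Nat.card K ^ f.natDegree : ℕ) : ℂ) ^ (i + 1)))) := by
  have hT : T.IsSemisimple := Module.End.isSemisimple_of_squarefree_aeval_eq_zero hf.squarefree hTf
  have htop : Inv T (⊤ : Submodule K V) := fun v _ => Submodule.mem_top
  have hfac : ∀ U, Inv T U → ∀ g ∈ normalizedFactors (chp T U), g = f := fun U hU g hg =>
    factor_eq_of_kills hT hU hf hfm (fun v _ => by rw [hTf]; rfl) hg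
  have hpow : ∀ U, Inv T U → chp T U = f ^ cnt T U := fun U hU => by
    have h1 := UniqueFactorizationMonoid.prod_normalizedFactors (chp_ne_zero hU)
    rw [nf_replicate (hfac U hU), Multiset.prod_replicate] at h1
    exact (eq_of_monic_of_associated (hfm.pow _) (chp_monic hU) h1).symm
  set N := cnt T (⊤ : Submodule K V) with hNdef
  have hchp : T.charpoly = f ^ N := by rw [← chp_top]; exact hpow ⊤ htop
  have hdim : finrank K V = N * f.natDegree := by
    rw [← LinearMap.charpoly_natDegree T, hchp, natDegree_pow]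
  have hN : 0 < N := Nat.pos_of_ne_zero fun h => by rw [h, zero_mul] at hdim; omega
  have hμ : ∀ W, Inv T W → W ≠ ⊥ → ∑ U ∈ below T W, alt T U = 0 := fun W h1 h2 => sum_alt W h1 h2
  refine ⟨N, hdim, hchp, hN, ?_, ?_⟩
  · rw [mobius_eq hT alt_bot hμ htop, nf_replicate (hfac ⊤ htop), ← hNdef, weight,
      Multiset.toFinset_replicate, if_neg hN.ne', Finset.prod_singleton, Multiset.count_replicate_self]
  rw [cusp]
  congr 1
  rw [Finset.sum_congr rfl (g := fun U => alt T U * ((fun k : ℕ => (k : ℂ)) (cnt T U)) * eigP p φ f)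
    fun U hU => by rw [hpow U (mem_below.1 hU).1, eigP_pow p φ hf.ne_zero]; ring, ← Finset.sum_mul]
  have htne : (⊤ : Submodule K V) ≠ ⊥ := fun h => by
    have := finrank_top K V
    rw [h, finrank_bot] at this
    omega
  obtain ⟨a, -, ha⟩ := exists_simp htop htne
  obtain ⟨H', hH', hd, hs⟩ := exists_compl hT ha.1 htop le_top
  have hnf := nf_sup ha hH' hd hs
  have hfa : chp T a = f := hfac ⊤ htop _ (by rw [hnf]; exact Multiset.mem_cons_self _ _)
  rw [sum_split hT ha hH' hd hs (hfa ▸ hfac ⊤ htop) fun k => (k : ℂ), hfa,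
    show N - 1 = cnt T H' by rw [hNdef, cnt, cnt, hnf, Multiset.card_cons, Nat.add_sub_cancel]]
  have := sum_alt_pow hT hH' (hfac H' hH') (((Nat.card K ^ f.natDegree : ℕ) : ℂ))
  rw [Finset.prod_congr rfl (g := fun i => (1 - ((Nat.card K ^ f.natDegree : ℕ) : ℂ) ^ (i + 1)))
    fun i _ => by rw [pow_succ]] at this
  rw [← this]
  push_cast
  rw [Finset.mul_sum, Finset.sum_mul, ← Finset.sum_neg_distrib]
  exact Finset.sum_congr rfl fun U _ => by ring

end CfsgLib.Cuspidal
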