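import Cfsg.Agent.Lib.Modular.SimpleCount
import Cfsg.Agent.Lib.Chars.MonSpan
import Cfsg.Agent.Lib.CharsMore.BrauerInduction
import Mathlib

/-!
# Brauer lifts of representations over finite fields are generalised characters

For a representation of a finite group over a finite field the sum of the lifts of the eigenvalues
is a generalised character; so is a sum, over the fixed points of an action, of an equivariant
family of generalised characters of the stabilisers.
-/

set_option autoImplicit false
set_option linter.style.haveILetI false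
set_option linter.unusedSectionVars false

namespace CfsgLib.Cuspidal

open Cfsg CfsgLib.Chars CfsgLib.BrauerChar CfsgLib.Modular Module

universe u v w

section closure

variable {G : Type u} [Group G] [Finite G]

theorem gen_ofChar {χ : G → ℂ} (h : IsCharacter G χ) : IsGeneralizedCharacter G χ :=
  ⟨χ, 0, h, isCharacter_zero, (sub_zero _).symm⟩

theorem gen_zero : IsGeneralizedCharacter G 0 := gen_ofChar isCharacter_zero

theorem gen_add {φ ψ : G → ℂ} (h1 : IsGeneralizedCharacter G φ) (h2 : IsGeneralizedCharacter G ψ) :
    IsGeneralizedCharacter G (φ + ψ) := by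
  obtain ⟨a, b, ha, hb, rfl⟩ := h1
  obtain ⟨c, d, hc, hd, rfl⟩ := h2
  exact ⟨a + c, b + d, isCharacter_add ha hc, isCharacter_add hb hd, by abel⟩

theorem gen_neg {φ : G → ℂ} (h : IsGeneralizedCharacter G φ) : IsGeneralizedCharacter G (-φ) := by
  obtain ⟨a, b, ha, hb, rfl⟩ := h
  exact ⟨b, a, hb, ha, neg_sub _ _⟩

theorem gen_sum {ι : Type*} (s : Finset ι) {f : ι → G → ℂ}
    (h : ∀ i ∈ s, IsGeneralizedCharacter G (f i)) : IsGeneralizedCharacter G (∑ i ∈ s, f i) := by
  classical
  induction s using Finset.induction_on with
  | empty => simpa using (gen_zero : IsGeneralizedCharacter G 0)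
  | insert a s ha ih =>
    rw [Finset.sum_insert ha]
    exact gen_add (h a (Finset.mem_insert_self a s))
      (ih fun i hi => h i (Finset.mem_insert_of_mem hi))

theorem gen_mul {φ ψ : G → ℂ} (h1 : IsGeneralizedCharacter G φ) (h2 : IsGeneralizedCharacter G ψ) :
    IsGeneralizedCharacter G (φ * ψ) := by
  obtain ⟨a, b, ha, hb, rfl⟩ := h1
  obtain ⟨c, d, hc, hd, rfl⟩ := h2
  refine ⟨a * c + b * d, a * d + b * c, isCharacter_add (isCharacter_mul ha hc) (isCharacter_mul hb hd),
    isCharacter_add (isCharacter_mul ha hd) (isCharacter_mul hb hc), ?_⟩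
  ring

theorem gen_comp {H : Type v} [Group H] (f : H →* G) {φ : G → ℂ}
    (h : IsGeneralizedCharacter G φ) : IsGeneralizedCharacter H (fun x => φ (f x)) := by
  obtain ⟨a, b, ha, hb, rfl⟩ := h
  exact ⟨fun x => a (f x), fun x => b (f x), isCharacter_comp f ha, isCharacter_comp f hb, rfl⟩

theorem gen_ringHom (σ : ℂ →+* ℂ) {φ : G → ℂ} (h : IsGeneralizedCharacter G φ) :
    IsGeneralizedCharacter G (fun g => σ (φ g)) := by
  obtain ⟨a, b, ha, hb, rfl⟩ := h
  exact ⟨_, _, isCharacter_ringHom σ ha, isCharacter_ringHom σ hb,
    funext fun g => by simp⟩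

end closure

section fixedSum

variable {G : Type u} [Group G] [Fintype G] {X : Type v} [MulAction G X] [Fintype X]

open scoped Classical in
/-- Sums over fixed points of equivariant families are sums of induced functions. -/
theorem gen_sum_fixed (F : X → G → ℂ) (hF : ∀ (h g : G) x, F (h • x) (h * g * h⁻¹) = F x g)
    (hgen : ∀ x, IsGeneralizedCharacter (MulAction.stabilizer G x) fun g => F x g) :
    IsGeneralizedCharacter G (fun g => ∑ x : X, if g • x = x then F x g else 0) := by
  let o : X → MulAction.orbitRel.Quotient G X := fun x => Quotient.mk'' x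
  haveI : Fintype (MulAction.orbitRel.Quotient G X) := Fintype.ofFinite _
  have key : ∀ (g : G) (ω : MulAction.orbitRel.Quotient G X),
      indFun (MulAction.stabilizer G ω.out) (fun h => F ω.out h) g =
        ∑ x ∈ Finset.univ.filter (fun x => o x = ω), if g • x = x then F x g else 0 := by
    intro g ω
    set x := ω.out with hx
    have hox : o x = ω := Quotient.out_eq' ω
    rw [indFun_apply]
    have h1 : ∀ y : G, extendByZero (MulAction.stabilizer G x) (fun h => F x h) (y⁻¹ * g * y) =
        if g • (y • x) = y • x then F (y • x) g else 0 := by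
      intro y
      by_cases hy : y⁻¹ * g * y ∈ MulAction.stabilizer G x
      · rw [extendByZero_of_mem _ _ hy, if_pos]
        · show F x (y⁻¹ * g * y) = _
          rw [← hF y]
          congr 1
          group
        · rw [MulAction.mem_stabilizer_iff, mul_smul, mul_smul, inv_smul_eq_iff] at hy
          exact hy
      · rw [extendByZero_of_not_mem _ _ hy, if_neg]
        intro h
        exact hy (by rw [MulAction.mem_stabilizer_iff, mul_smul, mul_smul, h, inv_smul_smul])
    rw [Finset.sum_congr rfl (fun y _ => h1 y),
      ← Finset.sum_fiberwise_of_maps_to (t := Finset.univ.filter (fun z => o z = ω))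
        (g := fun y : G => y • x) (fun y _ => Finset.mem_filter.2 ⟨Finset.mem_univ _, by
          rw [← hox]; exact Quotient.sound' (MulAction.mem_orbit x y)⟩)]
    have h2 : ∀ z ∈ Finset.univ.filter (fun z => o z = ω),
        ∑ y ∈ Finset.univ.filter (fun y : G => y • x = z),
          (if g • (y • x) = y • x then F (y • x) g else 0) =
        (Nat.card (MulAction.stabilizer G x) : ℂ) * (if g • z = z then F z g else 0) := by
      intro z hz
      rw [Finset.sum_congr rfl (g := fun _ : G => (if g • z = z then F z g else 0)) (fun y hy => by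
        rw [(Finset.mem_filter.mp hy).2]), Finset.sum_const, nsmul_eq_mul]
      congr 1
      have hzo : o z = o x := (Finset.mem_filter.mp hz).2.trans hox.symm
      obtain ⟨y₀, hy₀⟩ : z ∈ MulAction.orbit G x := Quotient.exact' hzo
      subst hy₀
      rw [Nat.card_eq_fintype_card, ← Fintype.card_subtype]
      norm_cast
      exact Fintype.card_congr ((Equiv.mulLeft y₀⁻¹).subtypeEquiv fun y => by
        simp [MulAction.mem_stabilizer_iff, mul_smul, inv_smul_eq_iff])
    rw [Finset.sum_congr rfl h2, ← Finset.mul_sum, ← mul_assoc,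
      inv_mul_cancel₀ (Nat.cast_ne_zero.mpr Nat.card_pos.ne'), one_mul]
  have e : (fun g : G => ∑ x : X, if g • x = x then F x g else 0) =
      ∑ ω : MulAction.orbitRel.Quotient G X,
        indFun (MulAction.stabilizer G ω.out) (fun h => F ω.out h) := by
    funext g
    rw [Finset.sum_apply, Finset.sum_congr rfl fun ω _ => key g ω,
      Finset.sum_fiberwise]
  rw [e]
  exact gen_sum _ fun ω _ => isGeneralized_indFun _ (hgen _)

end fixedSum

/-! ### Lifting eigenvalues -/

section lift

variable (p : ℕ) [hp : Fact p.Prime] {V : ValuationSubring ℂ} [CharP (Res V) p]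
variable {K : Type v} [Field K] (φ : K →+* Res V)

open Classical in
/-- The sum of the lifts of the roots of a polynomial. -/
noncomputable def eigP (P : Polynomial K) : ℂ := ((P.map φ).roots.map (liftRoot p)).sum

theorem eigP_mul {P Q : Polynomial K} (hP : P ≠ 0) (hQ : Q ≠ 0) :
    eigP p φ (P * Q) = eigP p φ P + eigP p φ Q := by
  classical
  rw [eigP, eigP, eigP, Polynomial.map_mul, Polynomial.roots_mul, Multiset.map_add,
    Multiset.sum_add]
  exact mul_ne_zero ((Polynomial.map_ne_zero_iff φ.injective).2 hP)
    ((Polynomial.map_ne_zero_iff φ.injective).2 hQ)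

theorem eigP_one : eigP p φ 1 = 0 := by simp [eigP]

theorem eigP_pow {P : Polynomial K} (hP : P ≠ 0) (n : ℕ) : eigP p φ (P ^ n) = n * eigP p φ P := by
  induction n with
  | zero => simp [eigP_one]
  | succ n ih => rw [pow_succ, eigP_mul p φ (pow_ne_zero _ hP) hP, ih]; push_cast; ring

variable {M : Ideal AlgInt} [M.IsPrime]

/-- In coprime characteristic the irreducible Brauer characters are irreducible characters. -/
theorem isIrr_of_simpleChars (hV : IsPlaceOver p M V) {H : Type u} [Group H] [Finite H]
    (hH : ¬ p ∣ Nat.card H) {ψ : H → ℂ} (hψ : ψ ∈ simpleChars p V H) : IsIrrCharacter H ψ := by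
  classical
  letI := Fintype.ofFinite H
  haveI := Chars.irrFintype H
  have hreg : ∀ h : H, IsPRegular p h := fun h hd => hH (hd.trans (orderOf_dvd_natCard h))
  have hsub : (Finset.univ.image fun χ : IrrCharacter H => (χ : H → ℂ)) ⊆
      (finite_simpleChars (p := p) (V := V) (G := H)).toFinset := by
    intro f hf
    obtain ⟨χ, -, rfl⟩ := Finset.mem_image.1 hf
    rw [Set.Finite.mem_toFinset]
    obtain ⟨s, hs, -, hsimp⟩ := exists_reduction (p := p) hV χ
    refine ⟨s, hsimp hH, hs.trans (funext fun h => ?_)⟩
    unfold pRegularPart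
    rw [if_pos (hreg h)]
  have hcard : (finite_simpleChars (p := p) (V := V) (G := H)).toFinset.card ≤
      (Finset.univ.image fun χ : IrrCharacter H => (χ : H → ℂ)).card := by
    rw [← card_simpleChars hV, Finset.card_image_of_injective _ Subtype.val_injective,
      Finset.card_univ, ← Nat.card_eq_fintype_card, card_irr_eq_card_classes]
    refine le_of_eq (Nat.card_congr (Equiv.subtypeUnivEquiv fun C => ?_))
    obtain ⟨g, rfl⟩ := ConjClasses.mk_surjective C
    exact ⟨g, rfl, hreg g⟩
  have := Finset.eq_of_subset_of_card_le hsub hcard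
  rw [← Set.Finite.mem_toFinset (hs := finite_simpleChars), ← this] at hψ
  obtain ⟨χ, -, rfl⟩ := Finset.mem_image.1 hψ
  exact χ.2

variable [Finite K]

theorem gen_eig_of_coprime (hV : IsPlaceOver p M V) {H : Type u} [Group H] [Finite H]
    (hH : ¬ p ∣ Nat.card H) {W : Type w} [AddCommGroup W] [Module K W] [FiniteDimensional K W]
    (ρ : H →* Module.End K W) : IsGeneralizedCharacter H (fun h => eigP p φ (ρ h).charpoly) := by
  classical
  let b := Module.Free.chooseBasis K W
  let A : H →* Matrix _ _ (Res V) :=
    ((φ.mapMatrix).toMonoidHom.comp (LinearMap.toMatrixAlgEquiv b).toAlgHom.toMonoidHom).comp ρ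
  let r : Representation (Res V) H (Module.Free.ChooseBasisIndex K W → Res V) :=
    (Matrix.toLinAlgEquiv' (R := Res V)).toAlgHom.toMonoidHom.comp A
  have hreg : ∀ h : H, IsPRegular p h := fun h hd => hH (hd.trans (orderOf_dvd_natCard h))
  have e : (fun h => eigP p φ (ρ h).charpoly) = bch p r := by
    funext h
    rw [bch_of_regular r (hreg h), eigP]
    have h1 : (r h).charpoly = ((ρ h).charpoly).map φ := by
      show (Matrix.toLin' ((LinearMap.toMatrix b b (ρ h)).map φ)).charpoly = _
      rw [Matrix.charpoly_toLin', Matrix.charpoly_map, LinearMap.charpoly_toMatrix]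
    rw [h1]
  obtain ⟨L, hL, hsum⟩ := exists_decomposition (p := p) _ r rfl
  rw [e, hsum]
  clear hsum
  induction L with
  | nil => simpa using (gen_zero : IsGeneralizedCharacter H 0)
  | cons s L ih =>
    rw [List.map_cons, List.sum_cons]
    refine gen_add (gen_ofChar (isCharacter_of_irr (isIrr_of_simpleChars p hV hH ⟨s, ?_, rfl⟩)))
      (ih fun t ht => hL t (List.mem_cons_of_mem s ht))
    exact (hL s (List.mem_cons_self ..)).simple

variable [CharP K p]

theorem gen_eig_of_normal_sylow (hV : IsPlaceOver p M V) {E : Type u} [Group E] [Finite E]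
    (P : Sylow p E) [hPn : (P : Subgroup E).Normal] : ∀ (d : ℕ) {W : Type w} [AddCommGroup W]
    [Module K W] [FiniteDimensional K W] (ρ : E →* Module.End K W), finrank K W = d →
      IsGeneralizedCharacter E (fun e => eigP p φ (ρ e).charpoly) := by
  intro d
  induction d using Nat.strong_induction_on with
  | _ d ih =>
  intro W _ _ _ ρ hd
  haveI : Finite W := Module.finite_of_finite K
  rcases Nat.eq_zero_or_pos d with rfl | hd0
  · have h0 : (fun e => eigP p φ (ρ e).charpoly) = 0 := funext fun e => by
      have : (ρ e).charpoly = 1 := (ρ e).charpoly_monic.natDegree_eq_zero.1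
        (by rw [LinearMap.charpoly_natDegree, hd])
      rw [this, eigP_one]; rfl
    rw [h0]
    exact gen_zero
  -- the fixed space of the normal Sylow subgroup
  let U : Submodule K W := ⨅ u : (P : Subgroup E), LinearMap.ker (ρ u - 1)
  have hU : ∀ w : W, w ∈ U ↔ ∀ u ∈ (P : Subgroup E), ρ u w = w := fun w => by
    simp [U, Submodule.mem_iInf, sub_eq_zero]
  have hUinv : ∀ e : E, U ≤ U.comap (ρ e) := fun e w hw => by
    rw [Submodule.mem_comap, hU]
    intro u hu
    have h1 : ρ (e⁻¹ * u * e) w = w :=
      (hU w).1 hw _ (by simpa using hPn.conj_mem u hu e⁻¹)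
    calc ρ u (ρ e w) = ρ e (ρ (e⁻¹ * u * e) w) := by
          rw [← Module.End.mul_apply, ← map_mul, ← Module.End.mul_apply, ← map_mul]
          congr 2
          group
      _ = ρ e w := by rw [h1]
  have hUne : U ≠ ⊥ := by
    let act : MulAction (P : Subgroup E) W :=
      { smul := fun u w => ρ u w
        one_smul := fun w => by show ρ ((1 : (P : Subgroup E)) : E) w = w; simp
        mul_smul := fun a b w => by
          show ρ ((a * b : (P : Subgroup E)) : E) w = ρ a (ρ b w)
          rw [Subgroup.coe_mul, map_mul]; rfl }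
    have hdvd : p ∣ Nat.card W := by
      rw [Module.natCard_eq_pow_finrank (K := K), hd]
      obtain ⟨n, hn, hq⟩ := (letI := Fintype.ofFinite K; FiniteField.card K p)
      letI := Fintype.ofFinite K
      rw [Nat.card_eq_fintype_card, hq, ← pow_mul]
      exact dvd_pow_self p (Nat.mul_ne_zero n.ne_zero hd0.ne')
    have h0 : (0 : W) ∈ MulAction.fixedPoints (P : Subgroup E) W := fun u => map_zero (ρ u)
    obtain ⟨w, hw, hw0⟩ := P.2.exists_fixed_point_of_prime_dvd_card_of_fixed_point W hdvd h0
    intro h
    have hwU : w ∈ U := (hU w).2 fun u hu => hw ⟨u, hu⟩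
    rw [h, Submodule.mem_bot] at hwU
    exact hw0 hwU.symm
  rcases eq_or_ne U ⊤ with htop | htop
  · -- the Sylow subgroup acts trivially
    have hker : ∀ u ∈ (P : Subgroup E), ρ u = 1 := fun u hu =>
      LinearMap.ext fun w => (hU w).1 (htop ▸ Submodule.mem_top) u hu
    let ρ' : E ⧸ (P : Subgroup E) →* Module.End K W := QuotientGroup.lift _ ρ hker
    have hcop : ¬ p ∣ Nat.card (E ⧸ (P : Subgroup E)) := P.not_dvd_index
    have h := gen_comp (QuotientGroup.mk' (P : Subgroup E)) (gen_eig_of_coprime p φ hV hcop ρ')
    exact h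
  · let ρU : E →* Module.End K U :=
      { toFun := fun e => (ρ e).restrict (hUinv e)
        map_one' := by ext w; simp
        map_mul' := fun a b => by ext w; simp }
    let ρQ : E →* Module.End K (W ⧸ U) :=
      { toFun := fun e => U.mapQ U (ρ e) (hUinv e)
        map_one' := by
          refine LinearMap.ext fun x => ?_
          induction x using Submodule.Quotient.induction_on with | _ x => simp
        map_mul' := fun a b => by
          refine LinearMap.ext fun x => ?_
          induction x using Submodule.Quotient.induction_on with | _ x => simp }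
    have hsum := U.finrank_quotient_add_finrank
    have hpos : 0 < finrank K U := Submodule.one_le_finrank_iff.2 hUne
    have hlt : finrank K U < d := hd ▸ Submodule.finrank_lt htop
    have e : (fun e => eigP p φ (ρ e).charpoly) =
        (fun e => eigP p φ (ρU e).charpoly) + fun e => eigP p φ (ρQ e).charpoly := funext fun e => by
      rw [Pi.add_apply, charpoly_eq_mul U (ρ e) (hUinv e)]
      exact eigP_mul p φ (LinearMap.charpoly_monic _).ne_zero (LinearMap.charpoly_monic _).ne_zero
    rw [e]
    exact gen_add (ih _ hlt ρU rfl) (ih _ (by omega) ρQ rfl)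

/-- **The lifted eigenvalue sum is a generalised character.** -/
theorem gen_eig (hV : IsPlaceOver p M V) {G : Type u} [Group G] [Finite G]
    {W : Type w} [AddCommGroup W] [Module K W] [FiniteDimensional K W]
    (ρ : G →* Module.End K W) : IsGeneralizedCharacter G (fun g => eigP p φ (ρ g).charpoly) := by
  letI := Fintype.ofFinite G
  refine CharsMore.isGeneralized_of_elementary (fun g h => ?_) fun E r hr hE => ?_
  · let u : (Module.End K W)ˣ := Units.map ρ (toUnits h)
    let e : W ≃ₗ[K] W := LinearMap.GeneralLinearGroup.generalLinearEquiv K W u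
    have : ρ (h * g * h⁻¹) = e.conj (ρ g) := by
      refine LinearMap.ext fun w => ?_
      rw [LinearEquiv.conj_apply_apply, map_mul, map_mul]
      rfl
    rw [this, LinearEquiv.charpoly_conj]
  · haveI := isNilpotent_of_isElementary hr hE
    obtain ⟨P⟩ : Nonempty (Sylow p E) := inferInstance
    haveI : (P : Subgroup E).Normal := Sylow.normal_of_all_max_subgroups_normal
      (fun H hH => Subgroup.NormalizerCondition.normal_of_coatom H Group.normalizerCondition_of_isNilpotent hH) P
    exact gen_eig_of_normal_sylow p φ hV P _ (ρ.comp E.subtype) rfl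

end lift

end CfsgLib.Cuspidal
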