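import Cfsg.Agent.Lib.Cuspidal.Norm
import Cfsg.Agent.Lib.CharApps.Galois
import Cfsg.Agent.Lib.CharApps.AbelianSylow

/-!
# Cuspidal irreducible characters of the general linear group

Galois conjugates of the cuspidal generalised character give one irreducible character for each
orbit of faithful characters of the multiplicative group of the extension of degree `n`.
-/

set_option autoImplicit false
set_option linter.style.haveILetI false
set_option linter.unusedSectionVars false

namespace CfsgLib.Cuspidal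

open Cfsg CfsgLib.BrauerChar CfsgLib.CharsMore.St.Mobius Module Polynomial
open CfsgLib.CharsMore.St.GLValue (alt sum_alt)
open scoped ComplexConjugate

universe u w

variable {K : Type u} [Field K] [Finite K]

/-- The degree. -/
theorem cusp_one {V : Type w} [AddCommGroup V] [Module K V] [FiniteDimensional K V] [Finite V]
    (p : ℕ) [Fact p.Prime] {R : ValuationSubring ℂ} [CharP (Res R) p] (φ : K →+* Res R)
    (hV : 0 < finrank K V) :
    cusp p φ (1 : Module.End K V) =
      ∏ i ∈ Finset.Ico 1 (finrank K V), ((Nat.card K : ℂ) ^ i - 1) := by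
  have hmon : (X - C (1 : K)).Monic := monic_X_sub_C 1
  obtain ⟨N, hN, -, hN0, -, hval⟩ := cusp_primary (T := (1 : Module.End K V)) p φ hV
    (irreducible_X_sub_C 1) hmon (by simp)
  rw [natDegree_X_sub_C, mul_one] at hN
  have heig : eigP p φ (X - C (1 : K)) = 1 := by
    classical
    rw [eigP, Polynomial.map_sub, map_X, map_C, map_one, roots_X_sub_C, Multiset.map_singleton,
      Multiset.sum_singleton, liftRoot_one]
  rw [hval, heig, natDegree_X_sub_C, pow_one, one_mul, hN, Finset.prod_Ico_eq_prod_range]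
  obtain ⟨m, rfl⟩ : ∃ m, N = m + 1 := ⟨N - 1, by omega⟩
  rw [Nat.add_sub_cancel, pow_succ]
  have h : ∏ i ∈ Finset.range m, ((Nat.card K : ℂ) ^ (1 + i) - 1) =
      (-1 : ℂ) ^ m * ∏ i ∈ Finset.range m, ((1 : ℂ) - (Nat.card K : ℂ) ^ (i + 1)) := by
    rw [show (-1 : ℂ) ^ m = ∏ _i ∈ Finset.range m, (-1 : ℂ) by simp, ← Finset.prod_mul_distrib]
    exact Finset.prod_congr rfl fun i _ => by rw [add_comm 1 i]; ring
  rw [h]
  ring

/-- The matrices agreeing with the identity outside the block above `m`. -/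
def InBlock {n : ℕ} (m : ℕ) (g : Matrix (Fin n) (Fin n) K) : Prop :=
  ∀ i j : Fin n, ¬ (i.val < m ∧ m ≤ j.val) → g i j = (1 : Matrix (Fin n) (Fin n) K) i j

section sumBlock

variable (p : ℕ) [Fact p.Prime] {R : ValuationSubring ℂ} [CharP (Res R) p] (φ : K →+* Res R)
variable {n : ℕ}

open scoped Classical in
theorem sum_block_eq_zero [Fintype (GL (Fin n) K)] (σ : ℂ →+* ℂ) {m : ℕ} (h0 : 0 < m) (hm : m < n) :
    ∑ g : GL (Fin n) K, (if InBlock m (g : Matrix (Fin n) (Fin n) K) then
      σ (cusp p φ (Matrix.toLin' (g : Matrix (Fin n) (Fin n) K))) else 0) = 0 := by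
  let A : Submodule K (Fin n → K) :=
    { carrier := {v | ∀ i : Fin n, m ≤ i.val → v i = 0}
      add_mem' := fun h1 h2 i hi => by rw [Pi.add_apply, h1 i hi, h2 i hi, add_zero]
      zero_mem' := fun i _ => rfl
      smul_mem' := fun c v hv i hi => by rw [Pi.smul_apply, hv i hi, smul_zero] }
  have hA0 : A ≠ ⊥ := fun h => by
    have h1 : (Pi.single (⟨0, by omega⟩ : Fin n) (1 : K) : Fin n → K) ∈ A := fun i hi =>
      Pi.single_eq_of_ne (fun e => by rw [e] at hi; exact absurd hi (by simp; omega)) _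
    rw [h, Submodule.mem_bot, Pi.single_eq_zero_iff] at h1
    exact one_ne_zero h1
  have hA1 : A ≠ ⊤ := fun h => by
    have h1 : (Pi.single (⟨m, hm⟩ : Fin n) (1 : K) : Fin n → K) ∈ A := h ▸ Submodule.mem_top
    have := h1 ⟨m, hm⟩ le_rfl
    rw [Pi.single_eq_same] at this
    exact one_ne_zero this
  haveI : Finite (((Fin n → K) ⧸ A) →ₗ[K] A) := Module.finite_of_finite K
  letI := Fintype.ofFinite (((Fin n → K) ⧸ A) →ₗ[K] A)
  let nil : (((Fin n → K) ⧸ A) →ₗ[K] A) → Module.End K (Fin n → K) := fun c => A.subtype ∘ₗ c ∘ₗ A.mkQ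
  have hnil : ∀ c c', nil c * nil c' = 0 := fun c c' => LinearMap.ext fun v => by
    simp [nil, (Submodule.Quotient.mk_eq_zero A).2 (c' (Submodule.Quotient.mk v)).2]
  have hneg : ∀ c, nil (-c) = -nil c := fun c => LinearMap.ext fun v => by simp [nil]
  let u : (((Fin n → K) ⧸ A) →ₗ[K] A) → GL (Fin n) K := fun c =>
    Matrix.GeneralLinearGroup.toLin.symm
      ⟨1 + nil c, 1 + nil (-c), by rw [hneg]; noncomm_ring [hnil], by rw [hneg]; noncomm_ring [hnil]⟩
  have hu : ∀ c, Matrix.toLin' ((u c : GL (Fin n) K) : Matrix (Fin n) (Fin n) K) = 1 + nil c :=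
    fun c => congrArg Units.val (MulEquiv.apply_symm_apply Matrix.GeneralLinearGroup.toLin _)
  have hblock : ∀ g : GL (Fin n) K, InBlock m (g : Matrix (Fin n) (Fin n) K) ↔ ∃ c, u c = g := by
    intro g
    constructor
    · intro hg
      let T : Module.End K (Fin n → K) := Matrix.toLin' (g : Matrix (Fin n) (Fin n) K) - 1
      have hT : ∀ v, T v ∈ A := fun v i hi => by
        show ((g : Matrix (Fin n) (Fin n) K).mulVec v - v) i = 0
        have : ∀ j, (g : Matrix (Fin n) (Fin n) K) i j = (1 : Matrix (Fin n) (Fin n) K) i j :=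
          fun j => hg i j (fun h => by omega)
        rw [Pi.sub_apply, Matrix.mulVec, dotProduct, Finset.sum_congr rfl fun j _ => by rw [this j],
          ← dotProduct, ← Matrix.mulVec, Matrix.one_mulVec, sub_self]
      have hTA : A ≤ LinearMap.ker T := fun v hv => by
        rw [LinearMap.mem_ker]
        funext i
        show ((g : Matrix (Fin n) (Fin n) K).mulVec v - v) i = 0
        rw [Pi.sub_apply, Matrix.mulVec, dotProduct, Finset.sum_congr rfl fun j _ => show
            (g : Matrix (Fin n) (Fin n) K) i j * v j = (1 : Matrix (Fin n) (Fin n) K) i j * v j by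
          by_cases hj : m ≤ j.val
          · rw [hv j hj, mul_zero, mul_zero]
          · rw [hg i j fun h => hj h.2],
          ← dotProduct, ← Matrix.mulVec, Matrix.one_mulVec, sub_self]
      refine ⟨A.liftQ (T.codRestrict A hT) (fun v hv => LinearMap.mem_ker.2
        (Subtype.ext (LinearMap.mem_ker.1 (hTA hv)))), ?_⟩
      refine Units.ext (Matrix.toLin'.injective ?_)
      rw [hu]
      refine LinearMap.ext fun v => ?_
      show v + T v = _
      simp [T]
    · rintro ⟨c, rfl⟩ i j hij
      have h1 : ((u c : GL (Fin n) K) : Matrix (Fin n) (Fin n) K).mulVec (Pi.single j 1) =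
          Pi.single j 1 + A.subtype (c (A.mkQ (Pi.single j 1))) := by
        rw [← Matrix.toLin'_apply, hu]; rfl
      have h2 : ((u c : GL (Fin n) K) : Matrix (Fin n) (Fin n) K) i j =
          (Pi.single j 1 : Fin n → K) i + (A.subtype (c (A.mkQ (Pi.single j 1))) : Fin n → K) i := by
        have h := congrFun h1 i
        rw [Matrix.mulVec_single_one] at h
        exact h
      rw [h2, show (1 : Matrix (Fin n) (Fin n) K) i j = (Pi.single j 1 : Fin n → K) i by
        rw [Matrix.one_apply, Pi.single_apply]]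
      by_cases hi : m ≤ i.val
      · rw [show (A.subtype (c (A.mkQ (Pi.single j 1))) : Fin n → K) i = 0 from
          (c (A.mkQ (Pi.single j 1))).2 i hi, add_zero]
      · have hj : j.val < m := by omega
        have : (Pi.single j 1 : Fin n → K) ∈ A := fun k hk =>
          Pi.single_eq_of_ne (fun e => by rw [e] at hk; omega) _
        rw [show A.mkQ (Pi.single j 1) = 0 from (Submodule.Quotient.mk_eq_zero A).2 this, map_zero,
          map_zero, Pi.zero_apply, add_zero]
  have hinj : Function.Injective u := fun c c' h => by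
    have h1 := congrArg (fun g : GL (Fin n) K => Matrix.toLin' (g : Matrix (Fin n) (Fin n) K)) h
    simp only [hu, add_right_inj] at h1
    refine LinearMap.ext fun x => ?_
    obtain ⟨v, rfl⟩ := A.mkQ_surjective x
    exact Subtype.ext (LinearMap.congr_fun h1 v)
  rw [← Finset.sum_filter, show Finset.univ.filter (fun g : GL (Fin n) K =>
      InBlock m (g : Matrix (Fin n) (Fin n) K)) = Finset.univ.image u by ext g; simp [hblock g],
    Finset.sum_image fun a _ b _ h => hinj h]
  simp only [hu]
  rw [← map_sum, sum_cusp_shift p φ hA0 hA1 (T := (1 : Module.End K (Fin n → K))) (fun v hv => hv),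
    map_zero]

end sumBlock

open scoped Classical in
/-- **Cuspidal irreducible characters.** -/
theorem card_cuspidal {F : Type u} [Field F] [Fintype F] [DecidableEq F] (n : ℕ) (hn : 2 ≤ n) :
    Nat.totient (Fintype.card F ^ n - 1) / n ≤
      Nat.card {χ : Cfsg.IrrCharacter (GL (Fin n) F) //
        (χ : GL (Fin n) F → ℂ) 1 = ∏ i ∈ Finset.Ico 1 n, ((Fintype.card F : ℂ) ^ i - 1) ∧
        ∀ m : ℕ, 0 < m → m < n →
          (∑ g : GL (Fin n) F, if InBlock m (g : Matrix (Fin n) (Fin n) F) then
            (χ : GL (Fin n) F → ℂ) g else 0) = 0} := by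
  set p := ringChar F
  haveI : CharP F p := ringChar.charP F
  haveI : Fact p.Prime := ⟨CharP.char_is_prime F p⟩
  haveI : NeZero n := ⟨by omega⟩
  obtain ⟨M, hM⟩ := CharApps.exists_pModular p
  haveI := hM.2.1.isPrime
  obtain ⟨R, hR⟩ := exists_place (p := p) hM.2.2
  haveI : CharP (Res R) p := hR.charP
  let L := FiniteField.Extension F p n
  haveI : CharP L p := charP_of_injective_algebraMap (algebraMap F L).injective p
  letI : Fintype L := Fintype.ofFinite L
  letI : Algebra (ZMod p) (Res R) := ZMod.algebra _ p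
  let ι : L →+* Res R := (IsAlgClosed.lift (R := ZMod p) (S := L) (M := Res R)).toRingHom
  let φ : F →+* Res R := ι.comp (algebraMap F L)
  have hVn : finrank F (Fin n → F) = n := Module.finrank_fin_fun F
  have hLn : finrank F L = n := FiniteField.finrank_extension F p n
  have hLc : Fintype.card L = Fintype.card F ^ n := by
    rw [Fintype.card_eq_nat_card, Fintype.card_eq_nat_card]
    exact FiniteField.natCard_extension F p n
  set q := Fintype.card F with hq
  have hq1 : 1 < q := Fintype.one_lt_card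
  set N := q ^ n - 1 with hNdef
  have hqn : 1 < q ^ n := Nat.one_lt_pow (by omega) hq1
  haveI : NeZero N := ⟨by omega⟩
  have hLN : Fintype.card L - 1 = N := by rw [hLc]
  -- the subgroup generated by the cardinality of the field
  have hq0 : ((q : ZMod N)) ^ n = 1 := by
    rw [← Nat.cast_pow, show q ^ n = N + 1 by omega, Nat.cast_add, ZMod.natCast_self, zero_add, Nat.cast_one]
  let qu : (ZMod N)ˣ := Units.ofPowEqOne (q : ZMod N) n hq0 (by omega)
  have hquv : (qu : ZMod N) = (q : ZMod N) := rfl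
  have hord : orderOf qu = n := by
    rw [orderOf_eq_iff (by omega)]
    refine ⟨Units.pow_ofPowEqOne hq0 _, fun m hm hm0 h => ?_⟩
    have h1 : ((q ^ m : ℕ) : ZMod N) = ((1 : ℕ) : ZMod N) := by
      have := congrArg Units.val h
      rw [Units.val_pow_eq_pow_val, hquv, Units.val_one] at this
      rw [Nat.cast_pow, this, Nat.cast_one]
    rw [ZMod.natCast_eq_natCast_iff'] at h1
    have h2 : q ^ m < N := by
      have h3 : q ^ (m + 1) ≤ q ^ n := Nat.pow_le_pow_right (by omega) hm
      rw [pow_succ] at h3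
      have : 2 * q ^ m ≤ q ^ m * q := by rw [mul_comm]; exact Nat.mul_le_mul_left _ hq1
      have := Nat.one_lt_pow hm0.ne' hq1
      omega
    have h4 := Nat.one_lt_pow hm0.ne' hq1
    rw [Nat.mod_eq_of_lt h2, Nat.mod_eq_of_lt (by omega)] at h1
    omega
  let H := Subgroup.zpowers qu
  let jj : (ZMod N)ˣ ⧸ H → ℕ := fun c => (c.out : ZMod N).val
  have hjcop : ∀ c, (jj c).Coprime N := fun c => ZMod.val_coe_unit_coprime _
  choose σ hσ using fun c => CharApps.exists_galois_pow N (hjcop c)
  let ψ : (ZMod N)ˣ ⧸ H → GL (Fin n) F → ℂ := fun c g =>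
    (σ c : ℂ →+* ℂ) (cusp p φ (Matrix.toLin' (g : Matrix (Fin n) (Fin n) F)))
  have hgen : ∀ c, IsGeneralizedCharacter (GL (Fin n) F) (ψ c) := fun c =>
    gen_ringHom _ (gen_cusp p φ hR
      ((Units.coeHom (Module.End F (Fin n → F))).comp Matrix.GeneralLinearGroup.toLin.toMonoidHom))
  haveI : Finite (Module.End F (Fin n → F)) := Module.finite_of_finite F
  letI : Fintype (Module.End F (Fin n → F))ˣ := Fintype.ofFinite _
  have hinner : ∀ c d, classInner (ψ c) (ψ d) = if c = d then 1 else 0 := by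
    intro c d
    have h := inner_cusp (K := F) (L := L) (V := Fin n → F) p ι (σ c : ℂ →+* ℂ) (σ d : ℂ →+* ℂ)
      (hLn.trans hVn.symm) (by rw [hVn]; omega)
    have he : classInner (ψ c) (ψ d) = classInner
        (fun g : (Module.End F (Fin n → F))ˣ => (σ c : ℂ →+* ℂ) (cusp p φ (g : Module.End F (Fin n → F))))
        (fun g : (Module.End F (Fin n → F))ˣ => (σ d : ℂ →+* ℂ) (cusp p φ (g : Module.End F (Fin n → F)))) := by
      rw [classInner, classInner, Nat.card_congr Matrix.GeneralLinearGroup.toLin.toEquiv]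
      congr 1
      exact Fintype.sum_equiv Matrix.GeneralLinearGroup.toLin.toEquiv _ _ fun g => rfl
    rw [he, h, sum_galois_pair p ι (σ c : ℂ →+* ℂ) (σ d : ℂ →+* ℂ) (j := jj c) (k := jj d)
      (fun z hz => hσ c z (hLN ▸ hz)) (fun z hz => hσ d z (hLN ▸ hz)), hVn, hLN,
      show Nat.card F = q from Nat.card_eq_fintype_card]
    have key : ∀ i l, jj c * q ^ i % N = jj d * q ^ l % N ↔
        (c.out : (ZMod N)ˣ) * qu ^ i = d.out * qu ^ l := by
      intro i l
      rw [← ZMod.natCast_eq_natCast_iff', Units.ext_iff]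
      simp only [jj, Nat.cast_mul, Nat.cast_pow, Units.val_mul, Units.val_pow_eq_pow_val, hquv,
        ZMod.natCast_rightInverse _]
    have hN0 : (N : ℂ) ≠ 0 := Nat.cast_ne_zero.2 (NeZero.ne N)
    have hn0 : (n : ℂ) ≠ 0 := Nat.cast_ne_zero.2 (by omega)
    by_cases hcd : c = d
    · subst hcd
      rw [if_pos rfl, Finset.sum_congr rfl (g := fun _ => (N : ℂ)) fun i hi => ?_, Finset.sum_const,
        Finset.card_range, nsmul_eq_mul]
      · field_simp
      rw [Finset.sum_eq_single i (fun l hl hne => if_neg fun h => hne ?_) (fun h => absurd hi h), if_pos rfl]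
      have h1 := mul_left_cancel ((key i l).1 h)
      rw [pow_inj_mod, hord, Nat.mod_eq_of_lt (Finset.mem_range.1 hi),
        Nat.mod_eq_of_lt (Finset.mem_range.1 hl)] at h1
      exact h1.symm
    · rw [if_neg hcd, Finset.sum_eq_zero fun i _ => Finset.sum_eq_zero fun l _ => if_neg fun h => hcd ?_,
        mul_zero]
      have h1 := (key i l).1 h
      rw [← c.out_eq', ← d.out_eq', QuotientGroup.eq]
      have : (c.out : (ZMod N)ˣ)⁻¹ * d.out = qu ^ i * (qu ^ l)⁻¹ := by
        rw [eq_mul_inv_iff_mul_eq, mul_assoc, ← h1, inv_mul_cancel_left]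
      rw [this]
      exact H.mul_mem (H.pow_mem (Subgroup.mem_zpowers qu) i)
        (H.inv_mem (H.pow_mem (Subgroup.mem_zpowers qu) l))
  have hdeg : ∀ c, ψ c 1 = ∏ i ∈ Finset.Ico 1 n, ((q : ℂ) ^ i - 1) := fun c => by
    show (σ c : ℂ →+* ℂ) (cusp p φ (Matrix.toLin' ((1 : GL (Fin n) F) : Matrix (Fin n) (Fin n) F))) = _
    rw [Units.val_one, Matrix.toLin'_one]
    rw [show (LinearMap.id : Module.End F (Fin n → F)) = 1 from rfl, cusp_one p φ (by rw [hVn]; omega),
      hVn, map_prod, Nat.card_eq_fintype_card]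
    refine Finset.prod_congr rfl fun i _ => ?_
    simp [hq]
  have hirr : ∀ c, IsIrrCharacter (GL (Fin n) F) (ψ c) := fun c => by
    refine Chars.irr_of_norm_one (hgen c) (by rw [hinner, if_pos rfl]) ?_
    rw [hdeg, show ∏ i ∈ Finset.Ico 1 n, ((q : ℂ) ^ i - 1) =
      ((∏ i ∈ Finset.Ico 1 n, (q ^ i - 1) : ℕ) : ℂ) by
        rw [Nat.cast_prod]
        exact Finset.prod_congr rfl fun i _ => by
          rw [Nat.cast_sub (Nat.one_le_pow _ _ (by omega))]; simp, Complex.natCast_re]
    positivity
  refine le_trans ?_ (Nat.card_le_card_of_injective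
    (fun c : (ZMod N)ˣ ⧸ H => (⟨⟨ψ c, hirr c⟩, hdeg c,
      fun m h0 hm => sum_block_eq_zero p φ _ h0 hm⟩ : {χ : Cfsg.IrrCharacter (GL (Fin n) F) //
        (χ : GL (Fin n) F → ℂ) 1 = ∏ i ∈ Finset.Ico 1 n, ((q : ℂ) ^ i - 1) ∧
        ∀ m : ℕ, 0 < m → m < n →
          (∑ g : GL (Fin n) F, if InBlock m (g : Matrix (Fin n) (Fin n) F) then
            (χ : GL (Fin n) F → ℂ) g else 0) = 0})) fun c d h => ?_)
  · refine le_of_eq ?_
    rw [Subgroup.card_eq_card_quotient_mul_card_subgroup H |>.symm.trans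
      (show Nat.card (ZMod N)ˣ = Nat.totient N by
        rw [Nat.card_eq_fintype_card, ZMod.card_units_eq_totient]) |>.symm, Nat.card_zpowers, hord,
      Nat.mul_div_cancel _ (by omega)]
  · have h' : ψ c = ψ d := congrArg (fun x => ((x.1 : Cfsg.IrrCharacter (GL (Fin n) F)) : GL (Fin n) F → ℂ)) h
    by_contra hne
    have := hinner c d
    rw [if_neg hne, ← h', hinner c c, if_pos rfl] at this
    exact one_ne_zero this

end CfsgLib.Cuspidal
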