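import Cfsg.Agent.Lib.CharsMore.St.GLValue
import Cfsg.Agent.Lib.Cuspidal.Gen

/-!
# The Möbius function of invariant subspaces as a generalised character

Invariance of the Möbius function of the lattice of invariant subspaces, its vanishing for
operators that are not semisimple, and the class function built from it and the lifted eigenvalues.
-/

set_option autoImplicit false
set_option linter.style.haveILetI false
set_option linter.unusedSectionVars false

namespace CfsgLib.Cuspidal

open Cfsg CfsgLib.Chars CfsgLib.BrauerChar CfsgLib.CharsMore.St.Mobius Module Polynomial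
open CfsgLib.CharsMore.St.GLValue (alt sum_alt)

universe u v w w'

variable {K : Type v} [Field K] [Finite K]
variable {V : Type w} [AddCommGroup V] [Module K V] [FiniteDimensional K V] [Finite V]
variable {V' : Type w'} [AddCommGroup V'] [Module K V'] [FiniteDimensional K V'] [Finite V']
variable {T : Module.End K V}

theorem alt_bot : alt T ⊥ = 1 := by rw [alt, if_pos (finrank_bot K V)]

theorem alt_rec [DecidableEq (Submodule K V)] {W : Submodule K V} (hW : Inv T W) (h0 : W ≠ ⊥) :
    alt T W = -∑ U ∈ (below T W).erase W, alt T U := by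
  classical
  have h := sum_alt (T := T) W hW h0
  rw [← Finset.add_sum_erase _ _ (mem_below.2 ⟨hW, le_rfl⟩)] at h
  exact eq_neg_of_add_eq_zero_left (by convert h)

theorem alt_int {W : Submodule K V} (hW : Inv T W) : ∃ z : ℤ, alt T W = z := by
  classical
  induction hn : finrank K W using Nat.strong_induction_on generalizing W with
  | _ n ih =>
  subst hn
  by_cases h0 : W = ⊥
  · subst h0; exact ⟨1, by rw [alt_bot]; simp⟩
  have h : ∀ U ∈ (below T W).erase W, ∃ z : ℤ, alt T U = z := fun U hU => by
    obtain ⟨hne, hU'⟩ := Finset.mem_erase.1 hU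
    obtain ⟨hUi, hUW⟩ := mem_below.1 hU'
    exact ih _ (Submodule.finrank_lt_finrank_of_lt (lt_of_le_of_ne hUW hne)) hUi rfl
  choose! z hz using h
  exact ⟨-∑ U ∈ (below T W).erase W, z U, by
    rw [alt_rec hW h0, Finset.sum_congr rfl hz]; push_cast; rfl⟩

/-- Transfer along an isomorphism of lattices of invariant subspaces. -/
theorem alt_transfer {T' : Module.End K V'} (f : Submodule K V' → Submodule K V)
    (hbot : f ⊥ = ⊥) (hinv : ∀ U, Inv T' U → Inv T (f U))
    (hle : ∀ U₁ U₂, Inv T' U₁ → Inv T' U₂ → (f U₁ ≤ f U₂ ↔ U₁ ≤ U₂))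
    (hsurj : ∀ U', Inv T' U' → ∀ U, Inv T U → U ≤ f U' → ∃ U₁, Inv T' U₁ ∧ f U₁ = U)
    {U : Submodule K V'} (hU : Inv T' U) : alt T (f U) = alt T' U := by
  classical
  induction hn : finrank K U using Nat.strong_induction_on generalizing U with
  | _ n ih =>
  subst hn
  by_cases h0 : U = ⊥
  · subst h0; rw [hbot, alt_bot, alt_bot]
  have hinj : ∀ U₁ U₂, Inv T' U₁ → Inv T' U₂ → f U₁ = f U₂ → U₁ = U₂ := fun U₁ U₂ h1 h2 h =>
    le_antisymm ((hle _ _ h1 h2).1 h.le) ((hle _ _ h2 h1).1 h.ge)
  have hf0 : f U ≠ ⊥ := fun h => h0 (hinj _ _ hU inv_bot (h.trans hbot.symm))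
  rw [alt_rec (hinv U hU) hf0, alt_rec hU h0]
  congr 1
  refine (Finset.sum_nbij f (fun U₁ h1 => ?_) (fun U₁ h1 U₂ h2 h => ?_) (fun U₁ h1 => ?_)
    fun U₁ h1 => ?_).symm
  · obtain ⟨hne, hU₁⟩ := Finset.mem_erase.1 h1
    obtain ⟨hi, hl⟩ := mem_below.1 hU₁
    exact Finset.mem_erase.2 ⟨fun h => hne (hinj _ _ hi hU h), mem_below.2 ⟨hinv _ hi, (hle _ _ hi hU).2 hl⟩⟩
  · exact hinj _ _ (mem_below.1 (Finset.mem_of_mem_erase h1)).1
      (mem_below.1 (Finset.mem_of_mem_erase h2)).1 h
  · obtain ⟨hne, hU₁⟩ := Finset.mem_erase.1 h1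
    obtain ⟨hi, hl⟩ := mem_below.1 hU₁
    obtain ⟨W, hW, rfl⟩ := hsurj U hU U₁ hi hl
    exact ⟨W, Finset.mem_erase.2 ⟨fun h => hne (by rw [h]), mem_below.2 ⟨hW, (hle _ _ hW hU).1 hl⟩⟩, rfl⟩
  · obtain ⟨hne, hU₁⟩ := Finset.mem_erase.1 h1
    obtain ⟨hi, hl⟩ := mem_below.1 hU₁
    exact (ih _ (Submodule.finrank_lt_finrank_of_lt (lt_of_le_of_ne hl hne)) hi rfl).symm

section equiv

variable {T' : Module.End K V'} (e : V' ≃ₗ[K] V) (he : ∀ v, e (T' v) = T (e v))

include he in
theorem inv_map_equiv {U : Submodule K V'} (hU : Inv T' U) : Inv T (U.map (e : V' →ₗ[K] V)) := by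
  rintro _ ⟨v, hv, rfl⟩
  exact ⟨T' v, hU v hv, he v⟩

include he in
theorem inv_comap_equiv {U : Submodule K V} (hU : Inv T U) : Inv T' (U.comap (e : V' →ₗ[K] V)) :=
  fun v hv => by
  show e (T' v) ∈ U
  rw [he]
  exact hU _ hv

include he in
theorem alt_map_equiv {U : Submodule K V'} (hU : Inv T' U) :
    alt T (U.map (e : V' →ₗ[K] V)) = alt T' U := by
  refine alt_transfer (fun U => U.map (e : V' →ₗ[K] V)) (Submodule.map_bot _)
    (fun U h => inv_map_equiv e he h) (fun U₁ U₂ _ _ => ?_) (fun U' _ W hW _ => ?_) hU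
  · exact Submodule.map_le_map_iff_of_injective e.injective _ _
  · exact ⟨W.comap (e : V' →ₗ[K] V), inv_comap_equiv e he hW,
      Submodule.map_comap_eq_of_surjective e.surjective W⟩

include he in
theorem chp_map_equiv {U : Submodule K V'} (hU : Inv T' U) :
    chp T (U.map (e : V' →ₗ[K] V)) = chp T' U := by
  rw [chp_eq hU, chp_eq (inv_map_equiv e he hU), ← (e.submoduleMap U).charpoly_conj (T'.restrict hU)]
  congr 1
  refine LinearMap.ext fun x => Subtype.ext ?_
  obtain ⟨u, rfl⟩ := (e.submoduleMap U).surjective x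
  rw [LinearEquiv.conj_apply_apply, LinearEquiv.symm_apply_apply]
  show T (e (u : V')) = e (T' (u : V'))
  rw [he]

end equiv

section restrict

variable {W : Submodule K V} (hW : Inv T W)

theorem inv_map_subtype {U : Submodule K W} (hU : Inv (T.restrict hW) U) :
    Inv T (U.map W.subtype) := by
  rintro _ ⟨v, hv, rfl⟩
  exact ⟨T.restrict hW v, hU v hv, rfl⟩

theorem alt_restrict {U : Submodule K W} (hU : Inv (T.restrict hW) U) :
    alt T (U.map W.subtype) = alt (T.restrict hW) U := by
  refine alt_transfer (fun U => U.map W.subtype) (Submodule.map_bot _)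
    (fun U h => inv_map_subtype hW h) (fun U₁ U₂ _ _ => ?_) (fun U' _ X hX hle => ?_) hU
  · exact Submodule.map_le_map_iff_of_injective W.injective_subtype _ _
  · refine ⟨X.comap W.subtype, fun v hv => hX _ hv, ?_⟩
    rw [Submodule.map_comap_eq, Submodule.range_subtype, inf_eq_right]
    exact hle.trans (Submodule.map_subtype_le W U')

theorem alt_restrict_top : alt (T.restrict hW) ⊤ = alt T W := by
  rw [← alt_restrict hW (U := ⊤) fun v _ => Submodule.mem_top, Submodule.map_subtype_top]

end restrict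

/-- A polynomial annihilating an invariant subspace. -/
def Kills (T : Module.End K V) (s : K[X]) (W : Submodule K V) : Prop := ∀ v ∈ W, aeval T s v = 0

/-- The Möbius function vanishes off the semisimple invariant subspaces. -/
theorem exists_squarefree_of_alt_ne {W : Submodule K V} (hW : Inv T W) (h : alt T W ≠ 0) :
    ∃ s : K[X], Squarefree s ∧ Kills T s W := by
  classical
  induction hn : finrank K W using Nat.strong_induction_on generalizing W with
  | _ n ih =>
  subst hn
  by_cases h0 : W = ⊥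
  · subst h0
    exact ⟨1, squarefree_one, fun v hv => by rw [(Submodule.mem_bot K).1 hv, map_zero]⟩
  obtain ⟨a, haW, ha⟩ := exists_simp hW h0
  have hsum := weisner (T := T) (μ := alt T) (fun U hU hU0 => sum_alt U hU hU0) ha.1 ha.2.1 hW haW
  have hWmem : W ∈ (below T W).filter (fun U => U ⊔ a = W) :=
    Finset.mem_filter.2 ⟨mem_below.2 ⟨hW, le_rfl⟩, sup_of_le_left haW⟩
  rw [← Finset.add_sum_erase _ _ hWmem] at hsum
  obtain ⟨U, hU, hUne⟩ : ∃ U ∈ ((below T W).filter (fun U => U ⊔ a = W)).erase W, alt T U ≠ 0 := by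
    by_contra hall
    push Not at hall
    rw [Finset.sum_eq_zero hall, add_zero] at hsum
    exact h hsum
  obtain ⟨hne, hU'⟩ := Finset.mem_erase.1 hU
  obtain ⟨hU'', hsup⟩ := Finset.mem_filter.1 hU'
  obtain ⟨hUi, hUW⟩ := mem_below.1 hU''
  obtain ⟨s, hs, hsk⟩ := ih _ (Submodule.finrank_lt_finrank_of_lt (lt_of_le_of_ne hUW hne)) hUi hUne rfl
  have hf := irreducible_chp ha
  have key : ∀ t : K[X], (chp T a ∣ t) → s ∣ t → Kills T t W := by
    rintro t ⟨c, hc⟩ ⟨c', hc'⟩ v hv
    rw [← hsup] at hv
    obtain ⟨u, hu, x, hx, rfl⟩ := Submodule.mem_sup.1 hv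
    rw [map_add]
    nth_rewrite 1 [hc']
    rw [hc, mul_comm s, mul_comm (chp T a), map_mul, map_mul, Module.End.mul_apply,
      Module.End.mul_apply, hsk u hu, aeval_chp ha.1 hx, map_zero, map_zero, add_zero]
  by_cases hdvd : chp T a ∣ s
  · exact ⟨s, hs, key s hdvd dvd_rfl⟩
  · refine ⟨chp T a * s, ?_, key _ (dvd_mul_right _ _) (dvd_mul_left _ _)⟩
    exact squarefree_mul_iff.2 ⟨(hf.coprime_iff_not_dvd.2 hdvd).isRelPrime, hf.squarefree, hs⟩

theorem alt_eq_zero_of_not_semisimple (hT : ¬ T.IsSemisimple) : alt T ⊤ = 0 := by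
  by_contra h
  obtain ⟨s, hs, hsk⟩ := exists_squarefree_of_alt_ne (fun v _ => Submodule.mem_top) h
  exact hT (Module.End.isSemisimple_of_squarefree_aeval_eq_zero hs
    (LinearMap.ext fun v => hsk v Submodule.mem_top))

/-! ### The class function -/

section cusp

variable (p : ℕ) [hp : Fact p.Prime] {R : ValuationSubring ℂ} [CharP (Res R) p] (φ : K →+* Res R)

/-- The cuspidal class function attached to the lifting `φ`. -/
noncomputable def cusp (T : Module.End K V) : ℂ :=
  (-1) ^ finrank K V * ∑ W ∈ below T ⊤, alt T W * eigP p φ (chp T W)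

theorem cusp_equiv {T' : Module.End K V'} (e : V' ≃ₗ[K] V) (he : ∀ v, e (T' v) = T (e v)) :
    cusp p φ T = cusp p φ T' := by
  classical
  rw [cusp, cusp, e.finrank_eq]
  congr 1
  refine (Finset.sum_nbij (fun U => U.map (e : V' →ₗ[K] V)) (fun U hU => ?_) (fun U _ U' _ h => ?_)
    (fun W hW => ?_) fun U hU => ?_).symm
  · exact mem_below.2 ⟨inv_map_equiv e he (mem_below.1 hU).1, le_top⟩
  · exact Submodule.map_injective_of_injective e.injective h
  · exact ⟨W.comap (e : V' →ₗ[K] V), mem_below.2 ⟨inv_comap_equiv e he (mem_below.1 hW).1, le_top⟩,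
      Submodule.map_comap_eq_of_surjective e.surjective W⟩
  · rw [alt_map_equiv e he (mem_below.1 hU).1, chp_map_equiv e he (mem_below.1 hU).1]

variable {G : Type u} [Group G] [Finite G]

/-- The action on subspaces of a representation. -/
@[reducible] noncomputable def subAct (ρ : G →* Module.End K V) : MulAction G (Submodule K V) where
  smul g U := U.map (ρ g)
  one_smul U := by
    show U.map (ρ 1) = U
    rw [map_one]; exact Submodule.map_id U
  mul_smul g h U := by
    show U.map (ρ (g * h)) = (U.map (ρ h)).map (ρ g)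
    rw [map_mul, ← Submodule.map_comp]; rfl

/-- The operator of a group element as an equivalence. -/
noncomputable def repEquiv (ρ : G →* Module.End K V) (g : G) : V ≃ₗ[K] V :=
  LinearMap.GeneralLinearGroup.generalLinearEquiv K V (Units.map ρ (toUnits g))

theorem repEquiv_apply (ρ : G →* Module.End K V) (g : G) (v : V) : repEquiv ρ g v = ρ g v := rfl

theorem map_eq_iff_inv (ρ : G →* Module.End K V) (g : G) (U : Submodule K V) :
    U.map (ρ g) = U ↔ Inv (ρ g) U := by
  constructor
  · intro h v hv
    rw [← h]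
    exact ⟨v, hv, rfl⟩
  · intro h
    refine Submodule.eq_of_le_of_finrank_eq ?_ ?_
    · rintro _ ⟨v, hv, rfl⟩; exact h v hv
    · exact (Submodule.equivMapOfInjective _ (repEquiv ρ g).injective U).finrank_eq.symm

theorem conj_intertwine (ρ : G →* Module.End K V) (h g : G) (v : V) :
    repEquiv ρ h (ρ g v) = ρ (h * g * h⁻¹) (repEquiv ρ h v) := by
  rw [repEquiv_apply, repEquiv_apply, ← Module.End.mul_apply, ← Module.End.mul_apply, ← map_mul,
    ← map_mul, inv_mul_cancel_right]

theorem gen_weighted (ρ : G →* Module.End K V) (F : Submodule K V → Module.End K V → ℂ)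
    (hF : ∀ (h g : G) U, Inv (ρ g) U →
      F (U.map (ρ h)) (ρ (h * g * h⁻¹)) = F U (ρ g))
    (hgen : letI := subAct ρ
      ∀ U : Submodule K V, IsGeneralizedCharacter (MulAction.stabilizer G U)
        (fun g : MulAction.stabilizer G U => F U (ρ g))) :
    IsGeneralizedCharacter G (fun g => ∑ W ∈ below (ρ g) ⊤, F W (ρ g)) := by
  classical
  letI := subAct ρ
  letI := Fintype.ofFinite G
  letI : Fintype (Submodule K V) := Fintype.ofFinite _
  have hiff : ∀ (g : G) (W : Submodule K V), g • W = W ↔ Inv (ρ g) W := fun g W =>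
    map_eq_iff_inv ρ g W
  have e : (fun g => ∑ W ∈ below (ρ g) ⊤, F W (ρ g)) =
      fun g => ∑ W : Submodule K V, if g • W = W then (if Inv (ρ g) W then F W (ρ g) else 0) else 0 := by
    funext g
    rw [← Finset.sum_filter]
    refine Finset.sum_congr ?_ fun W hW => ?_
    · ext W
      simp [mem_below, hiff]
    · rw [if_pos ((hiff g W).1 (Finset.mem_filter.1 hW).2)]
  rw [e]
  refine gen_sum_fixed (fun W g => if Inv (ρ g) W then F W (ρ g) else 0) (fun h g W => ?_) fun W => ?_
  · have h1 : (h * g * h⁻¹) • (h • W) = h • W ↔ g • W = W := by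
      rw [smul_smul, inv_mul_cancel_right, mul_smul, smul_left_cancel_iff]
    by_cases hi : Inv (ρ g) W
    · rw [if_pos hi, if_pos ((hiff _ _).1 (h1.2 ((hiff _ _).2 hi)))]
      exact hF h g W hi
    · rw [if_neg hi, if_neg fun hi' => hi ((hiff _ _).1 (h1.1 ((hiff _ _).2 hi')))]
  · have e2 : (fun g : MulAction.stabilizer G W => if Inv (ρ g) W then F W (ρ g) else 0) =
        fun g : MulAction.stabilizer G W => F W (ρ g) :=
      funext fun g => if_pos ((hiff g W).1 g.2)
    rw [e2]
    exact hgen W

/-- The restriction of a representation to a stable subspace. -/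
noncomputable def stabRep (ρ : G →* Module.End K V) (U : Submodule K V) :
    letI := subAct ρ
    MulAction.stabilizer G U →* Module.End K U :=
  letI := subAct ρ
  { toFun := fun g => (ρ (g : G)).restrict ((map_eq_iff_inv ρ (g : G) U).1 g.2)
    map_one' := by ext v; simp
    map_mul' := fun a b => by ext v; simp }

/-- The Möbius function of the invariant subspaces is a generalised character. -/
theorem gen_alt : ∀ (d : ℕ) {V : Type w} [AddCommGroup V] [Module K V] [FiniteDimensional K V]
    [Finite V] {G : Type u} [Group G] [Finite G] (ρ : G →* Module.End K V), finrank K V = d →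
    IsGeneralizedCharacter G (fun g => alt (ρ g) ⊤) := by
  intro d
  induction d using Nat.strong_induction_on with
  | _ d ih =>
  intro V _ _ _ _ G _ _ ρ hd
  classical
  rcases Nat.eq_zero_or_pos d with rfl | hd0
  · have e : (fun g => alt (ρ g) ⊤) = fun _ : G => (1 : ℂ) := funext fun g => by
      rw [alt, if_pos (by rw [finrank_top, hd])]
    rw [e]
    exact gen_ofChar isCharacter_one
  have htop : (⊤ : Submodule K V) ≠ ⊥ := fun h => by
    have := finrank_top K V
    rw [h, finrank_bot, hd] at this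
    omega
  have e : (fun g => alt (ρ g) ⊤) =
      -(fun g => ∑ W ∈ below (ρ g) ⊤, if W = ⊤ then 0 else alt (ρ g) W) := funext fun g => by
    rw [Pi.neg_apply, alt_rec (fun v _ => Submodule.mem_top) htop]
    congr 1
    rw [Finset.sum_ite, Finset.sum_const_zero, zero_add]
    exact Finset.sum_congr (by ext W; simp [and_comm]) fun _ _ => rfl
  rw [e]
  refine gen_neg (gen_weighted ρ (fun W T => if W = ⊤ then 0 else alt T W) (fun h g U hU => ?_) ?_)
  · by_cases hUt : U = ⊤
    · subst hUt
      rw [if_pos rfl, if_pos]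
      exact (map_eq_iff_inv ρ h ⊤).2 fun v _ => Submodule.mem_top
    · rw [if_neg hUt, if_neg]
      · exact alt_map_equiv (repEquiv ρ h) (conj_intertwine ρ h g) hU
      · intro hc
        refine hUt (Submodule.map_injective_of_injective (repEquiv ρ h).injective (hc.trans ?_))
        exact ((map_eq_iff_inv ρ h ⊤).2 fun v _ => Submodule.mem_top).symm
  · letI := subAct ρ
    intro U
    by_cases hUt : U = ⊤
    · have : (fun g : MulAction.stabilizer G U => if U = ⊤ then (0 : ℂ) else alt (ρ g) U) = 0 :=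
        funext fun g => if_pos hUt
      rw [this]
      exact gen_zero
    · have : (fun g : MulAction.stabilizer G U => if U = ⊤ then (0 : ℂ) else alt (ρ g) U) =
          fun g => alt (stabRep ρ U g) ⊤ := funext fun g => by
        rw [if_neg hUt]; exact (alt_restrict_top ((map_eq_iff_inv ρ (g : G) U).1 g.2)).symm
      rw [this]
      exact ih _ (hd ▸ Submodule.finrank_lt hUt) (stabRep ρ U) rfl

variable [CharP K p] {M : Ideal AlgInt} [M.IsPrime]

theorem chp_top (S : Module.End K V) : chp S ⊤ = S.charpoly := by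
  rw [chp_eq fun v _ => Submodule.mem_top,
    ← (Submodule.topEquiv (R := K) (M := V)).charpoly_conj]
  rfl

/-- **The cuspidal function is a generalised character.** -/
theorem gen_cusp (hR : IsPlaceOver p M R) (ρ : G →* Module.End K V) :
    IsGeneralizedCharacter G (fun g => cusp p φ (ρ g)) := by
  have h1 : IsGeneralizedCharacter G
      (fun g => ∑ W ∈ below (ρ g) ⊤, alt (ρ g) W * eigP p φ (chp (ρ g) W)) := by
    refine gen_weighted ρ (fun W T => alt T W * eigP p φ (chp T W)) (fun h g U hU => ?_) ?_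
    · show alt _ (U.map (repEquiv ρ h : V →ₗ[K] V)) * eigP p φ (chp _ (U.map (repEquiv ρ h : V →ₗ[K] V))) = _
      rw [alt_map_equiv (repEquiv ρ h) (conj_intertwine ρ h g) hU,
        chp_map_equiv (repEquiv ρ h) (conj_intertwine ρ h g) hU]
    · letI := subAct ρ
      intro U
      have e : (fun g : MulAction.stabilizer G U => alt (ρ g) U * eigP p φ (chp (ρ g) U)) =
          (fun g => alt (stabRep ρ U g) ⊤) * fun g => eigP p φ (stabRep ρ U g).charpoly :=
        funext fun g => by
          have hi := (map_eq_iff_inv ρ (g : G) U).1 g.2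
          show _ = alt ((ρ (g : G)).restrict hi) ⊤ * eigP p φ ((ρ (g : G)).restrict hi).charpoly
          rw [alt_restrict_top, ← chp_eq hi]
      rw [e]
      exact gen_mul (gen_alt _ (stabRep ρ U) rfl) (gen_eig p φ hR (stabRep ρ U))
  rcases neg_one_pow_eq_or ℂ (finrank K V) with h | h
  · have e : (fun g => cusp p φ (ρ g)) = _ := funext fun g => by rw [cusp, h, one_mul]
    rw [e]; exact h1
  · have e : (fun g => cusp p φ (ρ g)) =
        -fun g => ∑ W ∈ below (ρ g) ⊤, alt (ρ g) W * eigP p φ (chp (ρ g) W) :=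
      funext fun g => by rw [Pi.neg_apply, cusp, h, neg_one_mul]
    rw [e]; exact gen_neg h1

end cusp

end CfsgLib.Cuspidal
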