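import Cfsg.Agent.Lib.Cuspidal.Gen
import Mathlib.FieldTheory.Finite.Extension

/-!
# Orthogonality of Galois sums of a character of a multiplicative group

The lift of roots of unity gives a faithful character of the multiplicative group of a finite field;
the sums over its Galois orbit are orthogonal.
-/

set_option autoImplicit false
set_option linter.style.haveILetI false
set_option linter.unusedSectionVars false

namespace CfsgLib.Cuspidal

open Cfsg CfsgLib.BrauerChar Module Polynomial
open scoped ComplexConjugate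

universe v

variable (p : ℕ) [hp : Fact p.Prime] {R : ValuationSubring ℂ} [CharP (Res R) p]
variable {L : Type v} [Field L] [Fintype L] [CharP L p] (ι : L →+* Res R)

theorem not_dvd_card_units : ¬ p ∣ Fintype.card L - 1 := by
  obtain ⟨k, hk, hq⟩ := FiniteField.card L p
  intro h
  have h1 : p ∣ Fintype.card L := hq ▸ dvd_pow_self p k.ne_zero
  have h2 : p ∣ Fintype.card L - (Fintype.card L - 1) := Nat.dvd_sub h1 h
  rw [Nat.sub_sub_self Fintype.card_pos] at h2
  exact hp.out.not_dvd_one h2

theorem isLift_theta (x : L) (hx : x ≠ 0) : IsLift p (ι x) (liftRoot p (ι x)) :=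
  isLift_liftRoot (not_dvd_card_units p)
    (by rw [← map_pow, FiniteField.pow_card_sub_one_eq_one x hx, map_one])

/-- The faithful character given by lifting roots of unity. -/
noncomputable def theta : Lˣ →* ℂ where
  toFun x := liftRoot p (ι (x : L))
  map_one' := by rw [Units.val_one, map_one, liftRoot_one]
  map_mul' x y := by
    obtain ⟨hx, hxV, hxr⟩ := isLift_theta p ι (x : L) x.ne_zero
    obtain ⟨hy, hyV, hyr⟩ := isLift_theta p ι (y : L) y.ne_zero
    refine liftRoot_eq ⟨hx.mul hy, mul_mem hxV hyV, ?_⟩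
    rw [Units.val_mul, map_mul]
    exact (map_mul (IsLocalRing.residue R) ⟨_, hxV⟩ ⟨_, hyV⟩).trans (by rw [hxr, hyr])

theorem theta_apply (x : Lˣ) : theta p ι x = liftRoot p (ι (x : L)) := rfl

theorem theta_injective : Function.Injective (theta p ι) := by
  intro x y h
  obtain ⟨-, hxV, hxr⟩ := isLift_theta p ι (x : L) x.ne_zero
  obtain ⟨-, hyV, hyr⟩ := isLift_theta p ι (y : L) y.ne_zero
  refine Units.ext (ι.injective (hxr.symm.trans (Eq.trans ?_ hyr)))
  congr 1
  exact Subtype.ext h

theorem theta_pow_card (x : Lˣ) : theta p ι x ^ (Fintype.card L - 1) = 1 := by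
  rw [← map_pow, show x ^ (Fintype.card L - 1) = 1 from Units.ext (by
    rw [Units.val_pow_eq_pow_val, FiniteField.pow_card_sub_one_eq_one _ x.ne_zero, Units.val_one]),
    map_one]

/-- A generator goes to a primitive root of unity. -/
theorem exists_primitive : ∃ γ : Lˣ, (∀ x, x ∈ Subgroup.zpowers γ) ∧
    IsPrimitiveRoot (theta p ι γ) (Fintype.card L - 1) := by
  obtain ⟨γ, hγ⟩ := IsCyclic.exists_generator (α := Lˣ)
  refine ⟨γ, hγ, ?_⟩
  have ho : orderOf γ = Fintype.card L - 1 := by
    rw [orderOf_eq_card_of_forall_mem_zpowers hγ, Nat.card_units, Nat.card_eq_fintype_card]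
  rw [← ho, ← orderOf_injective (theta p ι) (theta_injective p ι) γ]
  exact IsPrimitiveRoot.orderOf _

open scoped Classical in
/-- **Orthogonality of the twisted Galois sums.** -/
theorem sum_galois_pair {q n : ℕ} (σ τ : ℂ →+* ℂ) {j k : ℕ}
    (hσ : ∀ z : ℂ, z ^ (Fintype.card L - 1) = 1 → σ z = z ^ j)
    (hτ : ∀ z : ℂ, z ^ (Fintype.card L - 1) = 1 → τ z = z ^ k) :
    ∑ x : Lˣ, (∑ i ∈ Finset.range n, σ (theta p ι (x ^ q ^ i))) *
        conj (∑ l ∈ Finset.range n, τ (theta p ι (x ^ q ^ l))) =
      ∑ i ∈ Finset.range n, ∑ l ∈ Finset.range n,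
        if j * q ^ i % (Fintype.card L - 1) = k * q ^ l % (Fintype.card L - 1) then
          ((Fintype.card L - 1 : ℕ) : ℂ) else 0 := by
  have hM : Fintype.card L - 1 ≠ 0 := Nat.sub_ne_zero_of_lt Fintype.one_lt_card
  simp only [map_sum, Finset.sum_mul_sum]
  rw [Finset.sum_comm]
  refine Finset.sum_congr rfl fun i _ => ?_
  rw [Finset.sum_comm]
  refine Finset.sum_congr rfl fun l _ => ?_
  let f : Lˣ →* ℂ :=
    { toFun := fun x => σ (theta p ι (x ^ q ^ i)) * conj (τ (theta p ι (x ^ q ^ l)))
      map_one' := by simp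
      map_mul' := fun x y => by simp only [mul_pow, map_mul]; ring }
  have hf : ∀ x, f x = theta p ι x ^ (j * q ^ i) * (theta p ι x ^ (k * q ^ l))⁻¹ := fun x => by
    show σ _ * conj (τ _) = _
    rw [hσ _ (theta_pow_card p ι _), hτ _ (theta_pow_card p ι _), map_pow (theta p ι),
      map_pow (theta p ι), ← pow_mul, ← pow_mul, mul_comm (q ^ i), mul_comm (q ^ l)]
    congr 1
    have hn : ‖theta p ι x ^ (k * q ^ l)‖ = 1 := Complex.norm_eq_one_of_pow_eq_one
      (by rw [← pow_mul, mul_comm, pow_mul, theta_pow_card, one_pow]) hM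
    exact (Complex.inv_eq_conj hn).symm
  show ∑ x : Lˣ, f x = _
  rw [sum_hom_units, Fintype.card_units]
  obtain ⟨γ, hγ, hprim⟩ := exists_primitive p ι
  have hiff : f = 1 ↔ j * q ^ i % (Fintype.card L - 1) = k * q ^ l % (Fintype.card L - 1) := by
    have h1 : f γ = 1 ↔ theta p ι γ ^ (j * q ^ i) = theta p ι γ ^ (k * q ^ l) := by
      rw [hf, mul_inv_eq_one₀ (pow_ne_zero _ (hprim.ne_zero hM))]
    have h2 : f γ = 1 ↔ j * q ^ i % (Fintype.card L - 1) = k * q ^ l % (Fintype.card L - 1) := by
      rw [h1, ← map_pow, ← map_pow, (theta_injective p ι).eq_iff, pow_inj_mod,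
        ← orderOf_injective (theta p ι) (theta_injective p ι) γ, ← hprim.eq_orderOf]
    rw [← h2]
    refine ⟨fun h => by rw [h]; rfl, fun h => MonoidHom.ext fun x => ?_⟩
    obtain ⟨m, rfl⟩ := mem_powers_iff_mem_zpowers.2 (hγ x)
    rw [map_pow, h, one_pow, MonoidHom.one_apply]
  simp only [hiff]
  split_ifs <;> simp

end CfsgLib.Cuspidal
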