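import Cfsg.Agent.Lib.Cuspidal.Eval
import Cfsg.Agent.Lib.Cuspidal.Count
import Cfsg.Agent.Lib.Cuspidal.Root

/-!
# Inner products of the cuspidal generalised characters

The vanishing of the constant terms reduces the inner product to the semisimple operators with one
irreducible factor, which are counted through the extension field.
-/

set_option autoImplicit false
set_option linter.style.haveILetI false
set_option linter.unusedSectionVars false

namespace CfsgLib.Cuspidal

open Cfsg CfsgLib.BrauerChar CfsgLib.CharsMore.St.Mobius Module Polynomial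
open CfsgLib.CharsMore.St.GLValue (alt sum_alt)
open scoped ComplexConjugate

universe v v' w

variable {K : Type v} [Field K] [Finite K]
variable {L : Type v'} [Field L] [Fintype L] [Algebra K L]

open scoped Classical in
/-- Sums over the powers of Frobenius run evenly through the roots. -/
theorem galois_sum (ξ : L) (F : L → ℂ) :
    ∃ N : ℕ, finrank K L = N * (minpoly K ξ).natDegree ∧
      ((minpoly K ξ).map (algebraMap K L)).roots.Nodup ∧
      Multiset.card ((minpoly K ξ).map (algebraMap K L)).roots = (minpoly K ξ).natDegree ∧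
      ∑ i ∈ Finset.range (finrank K L), F (ξ ^ Nat.card K ^ i) =
        (N : ℂ) * (((minpoly K ξ).map (algebraMap K L)).roots.map F).sum := by
  letI := Fintype.ofFinite K
  haveI : FiniteDimensional K L := Module.Finite.of_finite
  haveI : IsGalois K L := inferInstance
  set f := minpoly K ξ
  have hint : IsIntegral K ξ := IsIntegral.of_finite K ξ
  have hsplit : (f.map (algebraMap K L)).Splits := Normal.splits inferInstance ξ
  have hnd : (f.map (algebraMap K L)).roots.Nodup :=
    nodup_roots (Polynomial.Separable.map (show f.Separable from Algebra.IsSeparable.isSeparable K ξ))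
  have hcard : Multiset.card (f.map (algebraMap K L)).roots = f.natDegree := by
    rw [← hsplit.natDegree_eq_card_roots, natDegree_map]
  set S := (f.map (algebraMap K L)).roots.toFinset
  have hmap0 : f.map (algebraMap K L) ≠ 0 :=
    (Polynomial.map_ne_zero_iff (algebraMap K L).injective).2 (minpoly.ne_zero hint)
  have hmem : ∀ g : L ≃ₐ[K] L, g ξ ∈ S := fun g => by
    rw [Multiset.mem_toFinset, mem_roots hmap0, IsRoot, eval_map_algebraMap,
      Polynomial.aeval_algHom_apply, minpoly.aeval, map_zero]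
  have hfib : ∀ z ∈ S, (Finset.univ.filter fun g : L ≃ₐ[K] L => g ξ = z).card =
      (Finset.univ.filter fun g : L ≃ₐ[K] L => g ξ = ξ).card := by
    intro z hz
    rw [Multiset.mem_toFinset, mem_roots hmap0, IsRoot, eval_map_algebraMap] at hz
    have hzf : minpoly K z = f := by
      refine (eq_of_monic_of_associated (minpoly.monic hint) (minpoly.monic (IsIntegral.of_finite K z)) ?_).symm
      exact ((minpoly.irreducible (IsIntegral.of_finite K z)).associated_of_dvd (minpoly.irreducible hint)
        (minpoly.dvd K z hz)).symm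
    obtain ⟨g₀, hg₀⟩ := (Normal.minpoly_eq_iff_mem_orbit L).1 hzf
    refine Finset.card_equiv (Equiv.mulLeft g₀⁻¹) fun g => ?_
    have hg₀' : g₀ ξ = z := hg₀
    simp only [Finset.mem_filter, Finset.mem_univ, true_and, Equiv.coe_mulLeft, AlgEquiv.mul_apply]
    constructor
    · intro h; rw [h, ← hg₀']; exact g₀.symm_apply_apply ξ
    · intro h
      rw [← hg₀', ← congrArg g₀ h]
      exact (g₀.apply_symm_apply (g ξ)).symm
  set c := (Finset.univ.filter fun g : L ≃ₐ[K] L => g ξ = ξ).card
  have hSc : S.card = f.natDegree := by rw [Multiset.toFinset_card_of_nodup hnd, hcard]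
  have hn : finrank K L = c * f.natDegree := by
    rw [← IsGalois.card_aut_eq_finrank K L, ← hSc, mul_comm, ← smul_eq_mul, ← Finset.sum_const,
      ← Finset.sum_congr rfl hfib, ← Finset.card_eq_sum_card_fiberwise fun g _ => hmem g,
      Finset.card_univ, Nat.card_eq_fintype_card]
  refine ⟨c, hn, hnd, hcard, ?_⟩
  have hpow : ∀ (i : ℕ) (x : L), (FiniteField.frobeniusAlgEquivOfAlgebraic K L ^ i) x =
      x ^ Nat.card K ^ i := by
    intro i
    induction i with
    | zero => simp
    | succ i ih =>
      intro x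
      rw [pow_succ, AlgEquiv.mul_apply, FiniteField.coe_frobeniusAlgEquivOfAlgebraic, ih,
        Fintype.card_eq_nat_card, ← pow_mul, ← pow_succ']
  have hbij := (FiniteField.bijective_frobeniusAlgEquivOfAlgebraic_pow K L).sum_comp
    fun g : L ≃ₐ[K] L => F (g ξ)
  simp only [hpow] at hbij
  rw [← Fin.sum_univ_eq_sum_range (fun i => F (ξ ^ Nat.card K ^ i)), hbij,
    ← Finset.sum_fiberwise_of_maps_to (t := S) (g := fun g : L ≃ₐ[K] L => g ξ) fun g _ => hmem g]
  rw [show ((f.map (algebraMap K L)).roots.map F).sum = ∑ z ∈ S, F z by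
    rw [Finset.sum_multiset_map_count]
    exact Finset.sum_congr rfl fun z hz => by
      rw [Multiset.count_eq_one_of_mem hnd (Multiset.mem_toFinset.1 hz), one_smul], Finset.mul_sum]
  refine Finset.sum_congr rfl fun z hz => ?_
  rw [Finset.sum_congr rfl (g := fun _ => F z) fun g hg => by rw [(Finset.mem_filter.1 hg).2],
    Finset.sum_const, nsmul_eq_mul, hfib z hz]

theorem prod_sub_pow (Q : ℕ) (hQ : 1 ≤ Q) (N : ℕ) :
    ((∏ i ∈ Finset.range (N + 1), (Q ^ (N + 1) - Q ^ i) : ℕ) : ℂ) =
      ((Q : ℂ) ^ (N + 1) - 1) * ((Q : ℂ) ^ (N + 1).choose 2 *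
        ∏ i ∈ Finset.range N, ((Q : ℂ) ^ (i + 1) - 1)) := by
  rw [Nat.cast_prod, Finset.prod_congr rfl (g := fun i => (Q : ℂ) ^ i * ((Q : ℂ) ^ (N + 1 - i) - 1))
    fun i hi => by
      have hi' := Finset.mem_range.1 hi
      rw [Nat.cast_sub (Nat.pow_le_pow_right hQ hi'.le), Nat.cast_pow, Nat.cast_pow, mul_sub, mul_one,
        ← pow_add, show i + (N + 1 - i) = N + 1 by omega],
    Finset.prod_mul_distrib, Finset.prod_pow_eq_pow_sum, Finset.sum_range_id,
    ← Finset.prod_range_reflect (fun i => (Q : ℂ) ^ (N + 1 - i) - 1) (N + 1)]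
  rw [Finset.prod_congr rfl (g := fun i => (Q : ℂ) ^ (i + 1) - 1) fun i hi => by
    rw [show N + 1 - (N + 1 - 1 - i) = i + 1 by have := Finset.mem_range.1 hi; omega],
    Finset.prod_range_succ, Nat.choose_two_right]
  ring

variable {V : Type w} [AddCommGroup V] [Module K V] [FiniteDimensional K V] [Finite V]
variable (p : ℕ) [hp : Fact p.Prime] {R : ValuationSubring ℂ} [CharP (Res R) p] (φ : K →+* Res R)

section frobenius

variable [Fintype (Module.End K V)ˣ]

/-- Only the whole space contributes to an inner product. -/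
theorem sum_cusp_mul_conj (σ τ : ℂ →+* ℂ) (hV : 0 < finrank K V) :
    ∑ g : (Module.End K V)ˣ, σ (cusp p φ (g : Module.End K V)) * conj (τ (cusp p φ (g : Module.End K V))) =
      (-1) ^ finrank K V * ∑ g : (Module.End K V)ˣ, σ (cusp p φ (g : Module.End K V)) *
        (alt (g : Module.End K V) ⊤ * conj (τ (eigP p φ (g : Module.End K V).charpoly))) := by
  classical
  haveI : Fintype (Submodule K V) := Fintype.ofFinite _
  let h : (Module.End K V) → Submodule K V → ℂ := fun T W =>
    alt T W * conj (τ (eigP p φ (chp T W)))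
  have hexp : ∀ g : (Module.End K V)ˣ, conj (τ (cusp p φ (g : Module.End K V))) =
      (-1) ^ finrank K V * ∑ W : Submodule K V,
        if Inv (g : Module.End K V) W then h g W else 0 := fun g => by
    rw [cusp, map_mul, map_pow, map_neg, map_one, map_mul, map_pow, map_neg, map_one, map_sum, map_sum,
      ← Finset.sum_filter]
    congr 1
    refine Finset.sum_congr (by ext W; simp [mem_below]) fun W hW => ?_
    obtain ⟨z, hz⟩ := alt_int (T := (g : Module.End K V)) (Finset.mem_filter.1 hW).2
    simp only [h, map_mul, hz, map_intCast]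
  simp only [hexp, Finset.mul_sum]
  rw [Finset.sum_comm]
  rw [Fintype.sum_eq_single (⊤ : Submodule K V) fun W hW => ?_]
  · refine Finset.sum_congr rfl fun g _ => ?_
    rw [if_pos fun v _ => Submodule.mem_top]
    simp only [h, chp_top]
    ring
  rw [← Finset.sum_congr rfl fun g _ => mul_left_comm ((-1 : ℂ) ^ finrank K V) _ _, ← Finset.mul_sum]
  refine mul_eq_zero_of_right _ ?_
  by_cases hW0 : W = ⊥
  · subst hW0
    refine Finset.sum_eq_zero fun g _ => mul_eq_zero_of_right _ ?_
    rw [if_pos inv_bot]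
    simp only [h]
    rw [eq_one_of_monic_natDegree_zero (chp_monic inv_bot) (by rw [chp_natDegree inv_bot, finrank_bot]),
      eigP_one, map_zero, map_zero, mul_zero]
  haveI : Finite ((V ⧸ W) →ₗ[K] W) := Module.finite_of_finite K
  letI := Fintype.ofFinite ((V ⧸ W) →ₗ[K] W)
  let nil : ((V ⧸ W) →ₗ[K] W) → Module.End K V := fun c => W.subtype ∘ₗ c ∘ₗ W.mkQ
  have hnil : ∀ c c', nil c * nil c' = 0 := fun c c' => LinearMap.ext fun v => by
    simp [nil, Submodule.Quotient.mk_eq_zero, (Submodule.Quotient.mk_eq_zero W).2 (c' (Submodule.Quotient.mk v)).2]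
  have hneg : ∀ c, nil (-c) = -nil c := fun c => LinearMap.ext fun v => by simp [nil]
  let u : ((V ⧸ W) →ₗ[K] W) → (Module.End K V)ˣ := fun c =>
    ⟨1 + nil c, 1 + nil (-c), by rw [hneg]; noncomm_ring [hnil], by rw [hneg]; noncomm_ring [hnil]⟩
  let Φ : (Module.End K V)ˣ → ℂ := fun g => σ (cusp p φ (g : Module.End K V)) *
    (if Inv (g : Module.End K V) W then h g W else 0)
  have hfix : ∀ c, ∀ v ∈ W, (u c : Module.End K V) v = v := fun c v hv => by
    show v + W.subtype (c (W.mkQ v)) = v
    rw [show W.mkQ v = 0 from (Submodule.Quotient.mk_eq_zero W).2 hv, map_zero, map_zero, add_zero]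
  have hsame : ∀ g c, (if Inv ((g * u c : (Module.End K V)ˣ) : Module.End K V) W then
      h ((g * u c : (Module.End K V)ˣ) : Module.End K V) W else 0) =
      if Inv (g : Module.End K V) W then h g W else 0 := fun g c => by
    have hgv : ∀ v ∈ W, ((g * u c : (Module.End K V)ˣ) : Module.End K V) v = (g : Module.End K V) v :=
      fun v hv => by rw [Units.val_mul, Module.End.mul_apply, hfix c v hv]
    have hiff : Inv ((g * u c : (Module.End K V)ˣ) : Module.End K V) W ↔ Inv (g : Module.End K V) W :=
      forall₂_congr fun v hv => by rw [hgv v hv]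
    by_cases hi : Inv (g : Module.End K V) W
    · rw [if_pos (hiff.2 hi), if_pos hi]
      have hr : ((g * u c : (Module.End K V)ˣ) : Module.End K V).restrict (hiff.2 hi) =
          (g : Module.End K V).restrict hi := LinearMap.ext fun v => Subtype.ext (hgv v v.2)
      simp only [h]
      rw [← alt_restrict_top (hiff.2 hi), ← alt_restrict_top hi, chp_eq (hiff.2 hi), chp_eq hi, hr]
    · rw [if_neg fun h' => hi (hiff.1 h'), if_neg hi]
  have hzero : ∑ g : (Module.End K V)ˣ, ∑ c, Φ (g * u c) = 0 := by
    refine Finset.sum_eq_zero fun g _ => ?_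
    simp only [Φ, hsame g]
    rw [← Finset.sum_mul]
    by_cases hi : Inv (g : Module.End K V) W
    · refine mul_eq_zero_of_left ?_ _
      rw [← map_sum]
      refine (congrArg σ ?_).trans (map_zero σ)
      -- translate the block
      have hinj : Function.Injective ((g : Module.End K V).restrict hi) := fun a b hab => Subtype.ext
        ((((Module.End.isUnit_iff (g : Module.End K V)).1 g.isUnit).1) (congrArg Subtype.val hab))
      let gW : W ≃ₗ[K] W := LinearEquiv.ofBijective _ ⟨hinj, LinearMap.injective_iff_surjective.1 hinj⟩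
      let e : ((V ⧸ W) →ₗ[K] W) ≃ ((V ⧸ W) →ₗ[K] W) :=
        { toFun := fun c => gW.toLinearMap ∘ₗ c
          invFun := fun c => gW.symm.toLinearMap ∘ₗ c
          left_inv := fun c => LinearMap.ext fun x => gW.symm_apply_apply _
          right_inv := fun c => LinearMap.ext fun x => gW.apply_symm_apply _ }
      refine Eq.trans ?_ (sum_cusp_shift p φ hW0 hW (T := (g : Module.End K V)) hi)
      rw [← Equiv.sum_comp e (fun c => cusp p φ ((g : Module.End K V) + W.subtype ∘ₗ c ∘ₗ W.mkQ))]
      refine Finset.sum_congr rfl fun c _ => ?_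
      congr 1
      refine LinearMap.ext fun v => ?_
      show (g : Module.End K V) (v + W.subtype (c (W.mkQ v))) = _
      rw [map_add]
      rfl
    · rw [if_neg hi, mul_zero]
  have he : ∀ c, ∑ g, Φ (g * u c) = ∑ g, Φ g := fun c => Equiv.sum_comp (Equiv.mulRight (u c)) Φ
  rw [Finset.sum_comm, Finset.sum_congr rfl fun c _ => he c,
    Finset.sum_const, Finset.card_univ, nsmul_eq_mul] at hzero
  exact (mul_eq_zero.1 hzero).resolve_left (Nat.cast_ne_zero.2 Fintype.card_ne_zero)

end frobenius

variable [CharP K p] (ι : L →+* Res R) [CharP L p]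

open scoped Classical in
/-- **The inner products.** -/
theorem inner_cusp [Fintype (Module.End K V)ˣ] (σ τ : ℂ →+* ℂ) (hn : finrank K L = finrank K V)
    (hV : 0 < finrank K V) :
    classInner (fun g : (Module.End K V)ˣ => σ (cusp p (ι.comp (algebraMap K L)) (g : Module.End K V)))
        (fun g : (Module.End K V)ˣ => τ (cusp p (ι.comp (algebraMap K L)) (g : Module.End K V))) =
      ((finrank K V : ℂ) * ((Fintype.card L - 1 : ℕ) : ℂ))⁻¹ *
        ∑ x : Lˣ, (∑ i ∈ Finset.range (finrank K V), σ (theta p ι (x ^ Nat.card K ^ i))) *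
          conj (∑ i ∈ Finset.range (finrank K V), τ (theta p ι (x ^ Nat.card K ^ i))) := by
  haveI : FiniteDimensional K L := Module.Finite.of_finite
  set n := finrank K V
  set φ := ι.comp (algebraMap K L) with hφdef
  rw [classInner, sum_cusp_mul_conj p φ σ τ hV]
  let term : (Module.End K V)ˣ → ℂ := fun g => (-1) ^ n * (σ (cusp p φ (g : Module.End K V)) *
    (alt (g : Module.End K V) ⊤ * conj (τ (eigP p φ (g : Module.End K V).charpoly))))
  rw [Finset.mul_sum]
  show _ * ∑ g, term g = _
  -- the polynomial of an element of the extension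
  let P : Lˣ → K[X] := fun x => minpoly K (x : L)
  have hirr : ∀ x, Irreducible (P x) := fun x => minpoly.irreducible (IsIntegral.of_finite K _)
  have hmon : ∀ x, (P x).Monic := fun x => minpoly.monic (IsIntegral.of_finite K _)
  have hL : Nat.card L = Nat.card K ^ n := by rw [Module.natCard_eq_pow_finrank (K := K), hn]
  have hLf : Fintype.card L = Nat.card L := Fintype.card_eq_nat_card
  have hK2 : 1 < Nat.card K := Finite.one_lt_card
  have hsplit : ∀ g : (Module.End K V)ˣ,
      term g = ∑ x : Lˣ, if aeval (g : Module.End K V) (P x) = 0 then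
        term g / ((P x).natDegree : ℂ) else 0 := by
    intro g
    by_cases hg : ∃ f : K[X], Irreducible f ∧ f.Monic ∧ aeval (g : Module.End K V) f = 0
    · obtain ⟨f, hf, hfm, hfg⟩ := hg
      obtain ⟨N, hN, -, hN0, -, -⟩ := cusp_primary p φ hV hf hfm hfg
      have hPf : ∀ x : Lˣ, aeval (g : Module.End K V) (P x) = 0 ↔ aeval (x : L) f = 0 := by
        intro x
        constructor
        · intro h
          suffices P x = f by rw [← this]; exact minpoly.aeval K _
          by_contra hne
          obtain ⟨r, s, hrs⟩ := ((hirr x).coprime_iff_not_dvd).2 fun hd => hne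
            (eq_of_monic_of_associated (hmon x) hfm ((hirr x).associated_of_dvd hf hd))
          have h1 := congrArg (aeval (g : Module.End K V)) hrs
          rw [map_add, map_mul, map_mul, h, hfg, mul_zero, mul_zero, add_zero, map_one] at h1
          haveI : Nontrivial V := Module.nontrivial_of_finrank_pos hV
          exact one_ne_zero h1.symm
        · intro h
          rw [show P x = f from eq_of_monic_of_associated (hmon x) hfm
            ((hirr x).associated_of_dvd hf (minpoly.dvd K _ h))]
          exact hfg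
      have hdeg : ∀ x : Lˣ, aeval (g : Module.End K V) (P x) = 0 → P x = f := fun x hx =>
        eq_of_monic_of_associated (hmon x) hfm ((hirr x).associated_of_dvd hf (minpoly.dvd K _ ((hPf x).1 hx)))
      -- the polynomial has a root in the extension
      haveI := Fact.mk hf
      haveI : FiniteDimensional K (AdjoinRoot f) := (AdjoinRoot.powerBasis hf.ne_zero).finite
      obtain ⟨emb⟩ := FiniteField.nonempty_algHom_of_finrank_dvd (F := K) (K := AdjoinRoot f) (L := L) (by
        rw [(AdjoinRoot.powerBasis hf.ne_zero).finrank, AdjoinRoot.powerBasis_dim, hn]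
        exact ⟨N, hN.trans (mul_comm _ _)⟩)
      have hroot : aeval (emb (AdjoinRoot.root f)) f = 0 := by
        rw [aeval_algHom_apply, AdjoinRoot.aeval_eq, AdjoinRoot.mk_self, map_zero]
      have hne0 : ∀ z : L, aeval z f = 0 → z ≠ 0 := by
        intro z hz h0
        subst h0
        have hX : X ∣ f := by
          rw [X_dvd_iff]
          rw [← coeff_zero_eq_aeval_zero'] at hz
          exact (map_eq_zero_iff _ (algebraMap K L).injective).1 hz
        have := eq_of_monic_of_associated monic_X hfm (irreducible_X.associated_of_dvd hf hX)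
        rw [← this, aeval_X] at hfg
        haveI : Nontrivial V := Module.nontrivial_of_finrank_pos hV
        exact g.ne_zero hfg
      obtain ⟨-, -, hnd, hrc, -⟩ := galois_sum (K := K) (emb (AdjoinRoot.root f)) (fun _ => 0)
      have hmin : minpoly K (emb (AdjoinRoot.root f)) = f :=
        (minpoly.eq_of_irreducible_of_monic hf hroot hfm).symm
      rw [hmin] at hnd hrc
      have hcount : (Finset.univ.filter fun x : Lˣ => aeval (g : Module.End K V) (P x) = 0).card =
          f.natDegree := by
        rw [← hrc, ← Multiset.toFinset_card_of_nodup hnd]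
        refine Finset.card_bij (fun x _ => (x : L)) (fun x hx => ?_) (fun x _ y _ h => Units.ext h)
          fun z hz => ?_
        · rw [Multiset.mem_toFinset, mem_roots ((Polynomial.map_ne_zero_iff (algebraMap K L).injective).2
            hf.ne_zero), IsRoot, eval_map_algebraMap]
          exact (hPf x).1 (Finset.mem_filter.1 hx).2
        · rw [Multiset.mem_toFinset, mem_roots ((Polynomial.map_ne_zero_iff (algebraMap K L).injective).2
            hf.ne_zero), IsRoot, eval_map_algebraMap] at hz
          exact ⟨Units.mk0 z (hne0 z hz), Finset.mem_filter.2 ⟨Finset.mem_univ _, (hPf _).2 hz⟩, rfl⟩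
      rw [← Finset.sum_filter, Finset.sum_congr rfl (g := fun _ => term g / (f.natDegree : ℂ))
        fun x hx => by rw [hdeg x (Finset.mem_filter.1 hx).2], Finset.sum_const, hcount, nsmul_eq_mul,
        mul_div_cancel₀ _ (Nat.cast_ne_zero.2 (Irreducible.natDegree_pos hf).ne')]
    · rw [Finset.sum_eq_zero fun x _ => if_neg fun h => hg ⟨P x, hirr x, hmon x, h⟩]
      by_cases hss : (g : Module.End K V).IsSemisimple
      · rcases cusp_eq_zero_or_primary p φ hss with h | h
        · simp [term, h]
        · exact absurd h hg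
      · simp [term, alt_eq_zero_of_not_semisimple hss]
  rw [Finset.sum_congr rfl fun g _ => hsplit g, Finset.sum_comm, Finset.mul_sum, Finset.mul_sum]
  refine Finset.sum_congr rfl fun x _ => ?_
  rw [← Finset.sum_filter]
  obtain ⟨N, hN, hnd, hrc, hsum⟩ := galois_sum (K := K) (x : L) fun z => liftRoot p (ι z)
  rw [hn] at hN hsum
  have hd0 : 0 < (P x).natDegree := Irreducible.natDegree_pos (hirr x)
  have hN0 : 0 < N := Nat.pos_of_ne_zero fun h => by rw [h, zero_mul] at hN; omega
  have heig : eigP p φ (P x) = (((P x).map (algebraMap K L)).roots.map fun z => liftRoot p (ι z)).sum := by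
    rw [eigP, hφdef, ← Polynomial.map_map,
      (Normal.splits (inferInstance : Normal K L) (x : L)).roots_map ι, Multiset.map_map]
    rfl
  have hS : ∀ ρ : ℂ →+* ℂ, ∑ i ∈ Finset.range n, ρ (theta p ι (x ^ Nat.card K ^ i)) =
      (N : ℂ) * ρ (eigP p φ (P x)) := fun ρ => by
    rw [heig, ← map_sum, ← map_natCast ρ N, ← map_mul, ← hsum]
    simp only [theta_apply, Units.val_pow_eq_pow_val]
  rw [hS σ, hS τ]
  set Q := Nat.card K ^ (P x).natDegree with hQdef
  obtain ⟨N', rfl⟩ : ∃ N', N = N' + 1 := ⟨N - 1, by omega⟩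
  have hterm : ∀ g ∈ Finset.univ.filter (fun g : (Module.End K V)ˣ => aeval (g : Module.End K V) (P x) = 0),
      term g / ((P x).natDegree : ℂ) =
        ((N' + 1 : ℕ) : ℂ) * ((Q : ℂ) ^ (N' + 1).choose 2 * ∏ i ∈ Finset.range N', ((Q : ℂ) ^ (i + 1) - 1)) *
          (σ (eigP p φ (P x)) * conj (τ (eigP p φ (P x)))) / ((P x).natDegree : ℂ) := by
    intro g hg
    obtain ⟨M, hM, hch, -, halt, hval⟩ := cusp_primary p φ hV (hirr x) (hmon x) (Finset.mem_filter.1 hg).2
    have hMN : M = N' + 1 := Nat.eq_of_mul_eq_mul_right hd0 (hM.symm.trans hN)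
    subst hMN
    congr 1
    simp only [term]
    rw [halt, hval, hch, eigP_pow p φ (hirr x).ne_zero]
    simp only [map_mul, map_pow, map_neg, map_one, map_natCast, map_prod, map_sub, ← hQdef,
      Nat.add_sub_cancel]
    have hprod : ∏ i ∈ Finset.range N', ((1 : ℂ) - (Q : ℂ) ^ (i + 1)) =
        (-1) ^ N' * ∏ i ∈ Finset.range N', ((Q : ℂ) ^ (i + 1) - 1) := by
      rw [show (-1 : ℂ) ^ N' = ∏ _i ∈ Finset.range N', (-1 : ℂ) by simp, ← Finset.prod_mul_distrib]
      exact Finset.prod_congr rfl fun i _ => by ring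
    rw [hprod]
    have h1 : ((-1 : ℂ) ^ n) * (-1 : ℂ) ^ n = 1 := by rw [← mul_pow]; simp
    have h2 : ((-1 : ℂ) ^ N') * (-1 : ℂ) ^ N' = 1 := by rw [← mul_pow]; simp
    rw [pow_succ (-1 : ℂ) N']
    calc _ = ((-1 : ℂ) ^ n * (-1 : ℂ) ^ n) * ((-1 : ℂ) ^ N' * (-1 : ℂ) ^ N') *
          (((N' + 1 : ℕ) : ℂ) * ((Q : ℂ) ^ (N' + 1).choose 2 * ∏ i ∈ Finset.range N', ((Q : ℂ) ^ (i + 1) - 1)) *
            (σ (eigP p φ (P x)) * conj (τ (eigP p φ (P x))))) := by ring
      _ = _ := by rw [h1, h2, one_mul, one_mul]
  rw [Finset.sum_congr rfl hterm, Finset.sum_const, nsmul_eq_mul]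
  -- the number of elements
  haveI := Fact.mk (hirr x)
  have hcard := card_kill_mul (V := V) (P x) ?_ hN
  swap
  · intro h
    have h1 : AdjoinRoot.mk (P x) X = 0 := by rw [AdjoinRoot.mk_X]; exact h
    rw [AdjoinRoot.mk_eq_zero] at h1
    have := eq_of_monic_of_associated (hmon x) monic_X ((hirr x).associated_of_dvd irreducible_X h1)
    have h2 : aeval (x : L) (P x) = 0 := minpoly.aeval K _
    rw [this, aeval_X] at h2
    exact x.ne_zero h2
  have hcardC : ((Finset.univ.filter fun g : (Module.End K V)ˣ => aeval (g : Module.End K V) (P x) = 0).card : ℂ) *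
      (((Q : ℂ) ^ (N' + 1) - 1) * ((Q : ℂ) ^ (N' + 1).choose 2 *
        ∏ i ∈ Finset.range N', ((Q : ℂ) ^ (i + 1) - 1))) = (Nat.card (Module.End K V)ˣ : ℂ) := by
    rw [← prod_sub_pow Q (Nat.one_le_pow _ _ (by omega)) N', ← Nat.cast_mul, ← Fintype.card_subtype,
      ← Nat.card_eq_fintype_card, ← hcard]
  have hM : ((Fintype.card L - 1 : ℕ) : ℂ) = (Q : ℂ) ^ (N' + 1) - 1 := by
    rw [hLf, hL, hN, hQdef, mul_comm, pow_mul, Nat.cast_sub (Nat.one_le_pow _ _ (Nat.pow_pos (by omega)))]
    push_cast
    ring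
  have hU : (Nat.card (Module.End K V)ˣ : ℂ) ≠ 0 := Nat.cast_ne_zero.2 Nat.card_pos.ne'
  have hd : ((P x).natDegree : ℂ) ≠ 0 := Nat.cast_ne_zero.2 hd0.ne'
  have hNc : ((N' + 1 : ℕ) : ℂ) ≠ 0 := Nat.cast_ne_zero.2 (by omega)
  have hMne : (Q : ℂ) ^ (N' + 1) - 1 ≠ 0 := by
    rw [← hM]; exact Nat.cast_ne_zero.2 (Nat.sub_ne_zero_of_lt Fintype.one_lt_card)
  rw [hM, show (n : ℂ) = ((N' + 1 : ℕ) : ℂ) * ((P x).natDegree : ℂ) by rw [← Nat.cast_mul, ← hN],
    map_mul, map_natCast, ← hcardC]
  rw [← hcardC] at hU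
  generalize (Q : ℂ) ^ (N' + 1) - 1 = a at hU hMne ⊢
  generalize (Q : ℂ) ^ (N' + 1).choose 2 * ∏ i ∈ Finset.range N', ((Q : ℂ) ^ (i + 1) - 1) = b at hU ⊢
  generalize ((N' + 1 : ℕ) : ℂ) = m at hNc ⊢
  obtain ⟨hU1, hU2⟩ := mul_ne_zero_iff.1 hU
  obtain ⟨-, hU3⟩ := mul_ne_zero_iff.1 hU2
  field_simp

end CfsgLib.Cuspidal
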